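import Cfsg.Agent.Lib.Fischer.TypeM23.Setup
import Cfsg.Agent.Lib.Fischer.Fi22Recog.Iso
import Cfsg.Agent.Lib.Fischer.Relations.Twenty.Order
import Cfsg.Agent.Lib.CosetEnum.Groups.Fi23Simple

/-!
# A group of type M(23) is the presented group Fi23
-/

set_option autoImplicit false
set_option maxRecDepth 100000

namespace Cfsg.Lib.Fischer.M23

open Cfsg Cfsg.Lib.Fischer Cfsg.Lib.Fischer.Relations Cfsg.Lib.CosetEnum
open Cfsg.Spor

/-- The first generator of Fi23. -/
noncomputable def gen23 : Cfsg.Spor.Fi23 := Fi23Pres.numbering.gens Fi23.extra 0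

theorem label_edge : ∀ a < 10, ∀ b < 10, coxLabel Fi23.edges (Fi23Pres.letter a) (Fi23Pres.letter b) =
    if a = b then 1 else if edgeB a b then 3 else 2 := by decide +kernel

variable {G : Type*} [Group G] [Finite G] {D : Set G}

/-- A class of type M(23) is the class of the first generator of Fi23. -/
theorem exists_equiv (hT : Trans D) (hprim : Cfsg.IsPrimitiveUnderConj D) (h23 : Cfsg.IsOfTypeM23 G D) :
    ∃ e : Cfsg.Spor.Fi23 ≃* G, e '' conjugatesOf gen23 = D := by
  obtain ⟨-, -, hcard, -, -⟩ := m23_order hT hprim h23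
  obtain ⟨d, K⟩ := m23_data hT hprim h23 fun c hc Q hQ =>
    Dvd.dvd.trans (by norm_num) (ReflSeven.quot_dvd Q hQ hc)
  obtain ⟨c, hc, hdc, c₃, hc₃, hL⟩ := K.refl
  have hset : common D d c = perp D d ∩ perp D c := by
    ext x
    exact ⟨fun h => ⟨h.1, h.1.1, fun e => hdc (e ▸ h.1.2.2), h.2⟩, fun h => ⟨h.1, h.2.2.2⟩⟩
  have key : ∀ S : Set G, common D d c = S → Cfsg.IsProjReflectionGroupModThree
      (↥(Subgroup.closure S) ⧸ Subgroup.center ↥(Subgroup.closure S)) 7 (-c₃) c₃ := fun S h => h ▸ hL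
  obtain ⟨φ0, hφ0⟩ := Fi22Recog.exists_equiv (D := image (perp D d))
    ⟨K.imgTrans.set, K.imgTrans.conj, K.imgTrans.gen⟩ K.imgPrim K.img
  have hφ : φ0.symm '' image (perp D d) = conjugatesOf gen22 := by
    rw [← hφ0, ← Set.image_comp]
    simp only [Function.comp_def, MulEquiv.symm_apply_apply, Set.image_id']
    rfl
  obtain ⟨y, hy2, hyD, -, -, -, hcomm, hrel⟩ :=
    exists_gens hT hprim K.cen K.sep K.mem hc hdc hc₃ (key _ hset) φ0.symm hφ
  let N := Fi23Pres.numbering
  have hall : ∀ r ∈ N.pairs ++ Fi23Pres.extra, wordVal y r = 1 := by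
    intro r hr
    rcases List.mem_append.1 hr with hr | hr
    · simp only [Numbering.pairs, List.mem_flatMap, List.mem_map, List.mem_range] at hr
      obtain ⟨a, ha, b, hb, rfl⟩ := hr
      replace ha : a < 10 := ha
      replace hb : b < 10 := hb
      rw [wordVal_replicate y a b (by simp only [eps]; omega) (by simp only [eps]; omega)]
      show (y a * y b) ^ coxLabel Fi23.edges (Fi23Pres.letter a) (Fi23Pres.letter b) = 1
      rw [label_edge a ha b hb]
      split_ifs with h1 h2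
      · rw [h1, pow_one, hy2]
      · exact orderOf_mul hT _ _ (hyD a ha) (hyD b hb) fun hcm => by simp [(hcomm a ha b hb).1 hcm] at h2
      · rw [((hcomm a ha b hb).2 (by simpa using h2)).mul_pow, pow_two, pow_two, hy2, hy2, one_mul]
    · exact hrel r hr
  have hlift := N.lift_eq_one (by decide) y (Fi23Pres.map_extra y hy2) hall
  let f : Cfsg.Spor.Fi23 →* G := PresentedGroup.toGroup hlift
  have hf0 : f gen23 = y 0 := by
    rw [gen23, Numbering.gens, if_pos (show 0 < Fi23Pres.numbering.k by decide)]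
    show PresentedGroup.toGroup hlift (PresentedGroup.of (N.letter 0)) = _
    rw [PresentedGroup.toGroup.of]
    rfl
  have hFi : Cfsg.IsFi23 Cfsg.Spor.Fi23 := Fi23Pres.isFi23
  haveI : IsSimpleGroup Cfsg.Spor.Fi23 := hFi.1
  haveI : Finite Cfsg.Spor.Fi23 := Nat.finite_of_card_ne_zero (by rw [hFi.2]; decide)
  have hinj : Function.Injective f := by
    rw [← MonoidHom.ker_eq_bot_iff]
    refine (f.normal_ker.eq_bot_or_eq_top).resolve_right fun hk => ne_one hT (hyD 0 (by norm_num)) ?_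
    rw [← hf0]
    exact f.mem_ker.1 (hk ▸ Subgroup.mem_top _)
  have hbij : Function.Bijective f :=
    (Nat.bijective_iff_injective_and_card f).2 ⟨hinj, by rw [hFi.2, hcard]; norm_num⟩
  refine ⟨MulEquiv.ofBijective f hbij, Set.ext fun x => ⟨?_, fun hx => ?_⟩⟩
  · rintro ⟨z, hz, rfl⟩
    obtain ⟨u, rfl⟩ := isConj_iff.1 hz
    show f (u * gen23 * u⁻¹) ∈ D
    rw [map_mul, map_mul, map_inv, hf0]
    exact hT.conj _ _ (hyD 0 (by norm_num))
  · obtain ⟨g, rfl⟩ := hT.trans (y 0) (hyD 0 (by norm_num)) x hx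
    obtain ⟨u, rfl⟩ := hbij.2 g
    refine ⟨u * gen23 * u⁻¹, isConj_iff.2 ⟨u, rfl⟩, ?_⟩
    show f (u * gen23 * u⁻¹) = _
    rw [map_mul, map_mul, map_inv, hf0]

end Cfsg.Lib.Fischer.M23
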