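import Cfsg.Agent.Lib.CosetEnum.Fi22Out.Nodes
import Cfsg.Agent.Lib.CosetEnum.Fi22Out.Data
import Cfsg.Agent.Lib.CosetEnum.Fi22U62.Data

/-! Kernel check: in the exceptional branch the other arm takes a regular image. -/

set_option autoImplicit false
set_option maxRecDepth 100000

namespace Cfsg.Lib.Fischer.M23

open Cfsg.Lib.CosetEnum Cfsg.Lib.CosetEnum.Fi22Out Cfsg.Lib.CosetEnum.Fi22U62

/-- The earlier roles in the exceptional branch. -/
def prevS : List (Nat × Nat) :=
  [(0, 0), (1, 1), (2, 2), (3, 3), (7, 4), (8, 5), (5, 8)]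

theorem scanS_ok : scanOK tabP 9 (roleConds tabP 9 pts prevS 4) (roleMem pts prevS [repN4_7, repN4_9]) 3510 0 = true := by
  decide +kernel

/-- The pattern of the generators. -/
def adjB (r s : Nat) : Bool :=
  [(0, 1), (1, 2), (2, 3), (3, 4), (3, 7), (4, 5), (5, 6), (7, 8)].any fun e =>
    (Nat.beq e.1 r && Nat.beq e.2 s) || (Nat.beq e.1 s && Nat.beq e.2 r)

theorem pattern_ok : ((List.range 9).all fun r => (List.range 9).all fun s =>
    (Nat.beq (img tabP 9 r (pts.getD s 0)) (pts.getD s 0) == !adjB r s) &&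
      (Nat.beq r s || !Nat.beq (pts.getD r 0) (pts.getD s 0))) = true := by decide +kernel

end Cfsg.Lib.Fischer.M23
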