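import Cfsg.Agent.Lib.Fischer.TypeM23.Step
import Cfsg.Agent.Lib.Fischer.TypeM23.ScanSwap
import Cfsg.Agent.Lib.CosetEnum.Groups.Fi22Simple

/-!
# Eight transpositions of Fi22 with the pattern of the diagram Y322 extend to nine with the pattern of Y332

The extension is at the end of one of the two arms of length two, so one may have to exchange them.
-/

set_option autoImplicit false
set_option maxRecDepth 100000

namespace Cfsg.Lib.Fischer.M23

open Cfsg.Lib.CosetEnum Cfsg.Lib.CosetEnum.Fi22Out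

/-- Exchange the arms `e, f` and `h, i`. -/
def swapArm (r : ℕ) : ℕ := if r = 4 then 7 else if r = 7 then 4 else if r = 5 then 8 else if r = 8 then 5 else r

/-- The roles of the eight. -/
def eight : List ℕ := [0, 1, 2, 3, 4, 5, 7, 8]

theorem swapArm_eight : ∀ r ∈ eight, swapArm r ∈ eight := by decide

theorem adjB_swapArm : ∀ r ∈ eight, ∀ s ∈ eight, adjB (swapArm r) (swapArm s) = adjB r s := by decide

theorem finite_fi22 : Finite Cfsg.Spor.Fi22 :=
  Nat.finite_of_card_ne_zero (by rw [(show Cfsg.IsFi22 Cfsg.Spor.Fi22 from Fi22Pres.isFi22).2]; decide)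

attribute [local instance] finite_fi22

variable (A : TransTable Cfsg.Spor.Fi22 3510) (hZ : A.Z = Fi22U62.tabP) (hk : A.k = 9) (hp : A.pts = pts)

/-- A family with the pattern of the diagram on some roles. -/
def Shaped (roles : List ℕ) (τ : ℕ → Fin 3510) : Prop :=
  ∀ r ∈ roles, ∀ s ∈ roles,
    (A.delta (τ r) * A.delta (τ s) = A.delta (τ s) * A.delta (τ r) ↔ adjB r s = false) ∧ (r ≠ s → τ r ≠ τ s)

include hZ hk hp in
theorem pts_adj {r s : ℕ} (hr : r < 9) (hs : s < 9) :
    (A.x r * A.x s = A.x s * A.x r ↔ adjB r s = false) ∧ (r ≠ s → A.pts.getD r 0 ≠ A.pts.getD s 0) := by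
  have h := pattern_ok
  simp only [List.all_eq_true, List.mem_range, Bool.and_eq_true, beq_iff_eq, Bool.or_eq_true] at h
  obtain ⟨h1, h2⟩ := h r hr s hs
  constructor
  · have key := A.commute_gen_iff (show r < A.k by omega) ⟨A.pts.getD s 0, A.pts_lt (show s < A.k by omega)⟩
    rw [A.delta_pts (show s < A.k by omega)] at key
    simp only [twalk_cons, twalk_nil, hZ, hk, hp] at key
    rw [key, ← Nat.beq_eq, h1]
    simp
  · intro hne e
    rcases h2 with h2 | h2
    · exact hne (Nat.eq_of_beq_eq_true h2)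
    · rw [hp] at e
      rw [e, Nat.beq_refl] at h2
      exact Bool.noConfusion h2

include hZ hk hp in
theorem patterned_of_shaped {roles : List ℕ} (h9 : ∀ r ∈ roles, r < 9) {τ : ℕ → Fin 3510}
    (h : Shaped A roles τ) : A.Patterned roles τ :=
  ⟨fun r hr s hs => (h r hr s hs).1.trans (pts_adj A hZ hk hp (h9 r hr) (h9 s hs)).1.symm,
    fun r hr s hs hne => (h r hr s hs).2 fun e => hne (by rw [e])⟩

include hZ hk hp in
/-- From a regular branch the configuration is that of the generators, so it extends. -/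
theorem finish {τ : ℕ → Fin 3510} (hP : A.Patterned eight τ) (hst : A.State τ prevN5) :
    ∃ q : Fin 3510, ∃ α : MulAut Cfsg.Spor.Fi22,
      (∀ r ∈ eight, A.delta (τ r) = α (A.x r)) ∧ A.delta q = α (A.x 6) := by
  have step : ∀ {prev : List (ℕ × ℕ)} {r : ℕ} {reps : List Rep},
      repsOK Fi22U62.tabP 9 pts prev r reps = true → r ∈ eight → (∀ hg ∈ prev, hg.1 ∈ eight) →
      scanOK Fi22U62.tabP 9 (roleConds Fi22U62.tabP 9 pts prev r) (roleMem pts prev reps) 3510 0 = true →
      (∀ R ∈ reps, orbitOK Fi22U62.tabP R.O R.Pos 9 3510 R.c R.U R.c 0 = true) →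
      A.State τ prev → ∃ R ∈ reps, A.State τ (prev ++ [(r, R.g)]) :=
    fun h1 hr hh h2 h3 h => A.state_step_patterned hP (by rw [hZ, hk, hp]; exact h1) hr hh
      (by rw [hZ, hk, hp]; exact h2) (by rw [hZ, hk]; exact h3) h
  obtain ⟨R, hR, s5⟩ := step repsN5_ok (by decide) (by decide) scanN5_ok (by simpa [repsN5] using orbN5_8_ok) hst
  obtain rfl : R = repN5_8 := by simpa [repsN5] using hR
  obtain ⟨R, hR, s6⟩ := step repsN6_ok (by decide) (by decide +kernel) scanN6_ok
    (by simpa [repsN6] using orbN6_4_ok) s5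
  obtain rfl : R = repN6_4 := by simpa [repsN6] using hR
  obtain ⟨R, hR, s7⟩ := step repsN7_ok (by decide) (by decide +kernel) scanN7_ok
    (by simpa [repsN7] using orbN7_5_ok) s6
  obtain rfl : R = repN7_5 := by simpa [repsN7] using hR
  obtain ⟨a, ha⟩ := s7
  refine ⟨(A.f a).symm ⟨A.pts.getD 6 0, A.pts_lt (by omega)⟩, (MulAut.conj a)⁻¹, fun r hr => ?_, ?_⟩
  · have himg : (A.f a (τ r)).1 = A.pts.getD r 0 := by
      refine ha (r, r) ?_
      revert r
      decide +kernel
    have h9 : r < 9 := (show ∀ r ∈ eight, r < 9 by decide) r hr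
    rw [← A.delta_pts (show r < A.k by omega), show (⟨A.pts.getD r 0, A.pts_lt (show r < A.k by omega)⟩ :
      Fin 3510) = A.f a (τ r) from Fin.ext himg.symm, A.delta_apply]
    show _ = (MulAut.conj a).symm _
    rw [MulAut.conj_symm_apply]
    group
  · show _ = (MulAut.conj a).symm _
    rw [← A.delta_pts (show 6 < A.k by omega), MulAut.conj_symm_apply]
    conv_rhs => rw [← (A.f a).apply_symm_apply ⟨A.pts.getD 6 0, A.pts_lt (show 6 < A.k by omega)⟩, A.delta_apply]
    group

theorem shaped_swap {τ : ℕ → Fin 3510} (h : Shaped A eight τ) : Shaped A eight fun r => τ (swapArm r) :=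
  fun r hr s hs => by
    refine ⟨?_, fun hne => (h _ (swapArm_eight r hr) _ (swapArm_eight s hs)).2 fun e => hne ?_⟩
    · rw [← adjB_swapArm r hr s hs]; exact (h _ (swapArm_eight r hr) _ (swapArm_eight s hs)).1
    · revert r s; decide

include hZ hk hp in
/-- Either the configuration or the one with exchanged arms extends. -/
theorem exists_ninth (hd0 : A.d = A.x 0) (hp0 : A.p₀.1 = 0) {τ : ℕ → Fin 3510} (h : Shaped A eight τ) :
    ∃ τ' : ℕ → Fin 3510, (τ' = τ ∨ τ' = fun r => τ (swapArm r)) ∧ ∃ q : Fin 3510, ∃ α : MulAut Cfsg.Spor.Fi22,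
      (∀ r ∈ eight, A.delta (τ' r) = α (A.x r)) ∧ A.delta q = α (A.x 6) := by
  obtain ⟨σ, π, hπval, hπ⟩ := A.exists_twist (Pi := twist) (sub := sub) (by decide)
    (by rw [hZ, hk]; exact twist_ok) (by rw [hp0]; decide +kernel) (by omega) hd0 (by decide +kernel)
  have hP := patterned_of_shaped A hZ hk hp (by decide) h
  have hP' := patterned_of_shaped A hZ hk hp (by decide) (shaped_swap A h)
  have step : ∀ {prev : List (ℕ × ℕ)} {r : ℕ} {reps : List Rep},
      repsOK Fi22U62.tabP 9 pts prev r reps = true → r ∈ eight → (∀ hg ∈ prev, hg.1 ∈ eight) →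
      scanOK Fi22U62.tabP 9 (roleConds Fi22U62.tabP 9 pts prev r) (roleMem pts prev reps) 3510 0 = true →
      (∀ R ∈ reps, orbitOK Fi22U62.tabP R.O R.Pos 9 3510 R.c R.U R.c 0 = true) →
      A.State τ prev → ∃ R ∈ reps, A.State τ (prev ++ [(r, R.g)]) :=
    fun h1 hr hh h2 h3 h => A.state_step_patterned hP (by rw [hZ, hk, hp]; exact h1) hr hh
      (by rw [hZ, hk, hp]; exact h2) (by rw [hZ, hk]; exact h3) h
  -- a branch through the twisted orbit
  have twisted : ∀ {ρ : ℕ → Fin 3510}, A.Patterned eight ρ → A.State ρ (prevN4 ++ [(7, repN4_9.g)]) →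
      ∃ q : Fin 3510, ∃ α : MulAut Cfsg.Spor.Fi22,
        (∀ r ∈ eight, A.delta (ρ r) = α (A.x r)) ∧ A.delta q = α (A.x 6) := by
    intro ρ hρ hst
    obtain ⟨q, α, hq, hq6⟩ := finish A hZ hk hp (A.patterned_twist hπ hρ) (A.state_twist hπ (fun e he => by
      obtain ⟨g, hg, hgp⟩ : ∃ g, (e.1, g) ∈ prevN4 ++ [(7, repN4_9.g)] ∧
          twist.getP (pts.getD e.2 0) = pts.getD g 0 := by
        simp only [prevN5, List.mem_cons, List.not_mem_nil, or_false] at he
        rcases he with rfl | rfl | rfl | rfl | rfl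
        · exact ⟨0, by decide, by decide +kernel⟩
        · exact ⟨1, by decide, by decide +kernel⟩
        · exact ⟨2, by decide, by decide +kernel⟩
        · exact ⟨3, by decide, by decide +kernel⟩
        · exact ⟨9, by decide, by decide +kernel⟩
      have he2 : e.2 < A.k := by
        rw [hk]; exact (show ∀ e ∈ prevN5, e.2 < 9 by decide +kernel) e he
      refine ⟨g, hg, fun p hpv => ?_⟩
      have : π ⟨A.pts.getD e.2 0, A.pts_lt he2⟩ = p :=
        Fin.ext (by rw [hπval, hpv]; show twist.getP (A.pts.getD e.2 0) = _; rw [hp]; exact hgp)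
      rw [← this, Equiv.symm_apply_apply]) hst)
    refine ⟨π q, σ * α, fun r hr => ?_, ?_⟩
    · have := hπ (π.symm (ρ r))
      rw [Equiv.apply_symm_apply, hq r hr] at this
      exact this
    · rw [hπ, hq6]
      rfl
  have s0 : A.State τ [(0, 0)] := A.state_first τ (by omega)
  obtain ⟨R, hR, s1⟩ := step repsN1_ok (by decide) (by decide) scanN1_ok (by simpa [repsN1] using orbN1_1_ok) s0
  obtain rfl : R = repN1_1 := by simpa [repsN1] using hR
  obtain ⟨R, hR, s2⟩ := step repsN2_ok (by decide) (by decide +kernel) scanN2_ok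
    (by simpa [repsN2] using orbN2_2_ok) s1
  obtain rfl : R = repN2_2 := by simpa [repsN2] using hR
  obtain ⟨R, hR, s3⟩ := step repsN3_ok (by decide) (by decide +kernel) scanN3_ok
    (by simpa [repsN3] using orbN3_3_ok) s2
  obtain rfl : R = repN3_3 := by simpa [repsN3] using hR
  obtain ⟨R, hR, s4⟩ := step repsN4_ok (by decide) (by decide +kernel) scanN4_ok
    (by simpa [repsN4] using ⟨orbN4_7_ok, orbN4_4_ok, orbN4_9_ok⟩) s3
  obtain rfl | rfl | rfl : R = repN4_7 ∨ R = repN4_4 ∨ R = repN4_9 := by simpa [repsN4] using hR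
  · exact ⟨τ, Or.inl rfl, finish A hZ hk hp hP s4⟩
  · obtain ⟨R, hR, s5⟩ := step repsM_ok (by decide) (by decide +kernel) scanM_ok
      (by simpa [repsM] using orbM_5_ok) s4
    obtain rfl : R = repM_5 := by simpa [repsM] using hR
    obtain ⟨a, ha0⟩ := s5
    have h5 := scanOK_get (Z := A.Z) (k := A.k)
      (conds := roleConds A.Z A.k A.pts [(0, 0), (1, 1), (2, 2), (3, 3), (7, 4), (8, 5)] 5) (mem := elemN [92])
      (by rw [hZ, hk, hp]; exact leaf5_ok) (A.f a (τ 5)).1 (Nat.zero_le _) (by omega)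
      (A.conds_of_patterned hP (by omega) (by decide) (fun hg h => by
        have h' : hg.1 ∈ eight ∧ hg.1 < 9 ∧ hg.2 < 9 := by revert hg; decide +kernel
        rw [hk]; exact h') ha0)
    have ha : ∀ hg ∈ prevS, (A.f a (τ hg.1)).1 = A.pts.getD hg.2 0 := fun hg h => by
      rcases (show hg ∈ prevM ++ [(8, repM_5.g)] ∨ hg = (5, 8) by revert hg; decide +kernel) with h' | rfl
      · exact ha0 hg h'
      · rw [List.mem_singleton.1 (elemN_iff.1 h5), hp]; rfl
    obtain ⟨R, hR, hmem⟩ := A.member_of_patterned hP (prev := prevS) (r := 4) (reps := [repN4_7, repN4_9])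
      (by omega) (by decide) (fun hg h => by
        have h' : hg.1 ∈ eight ∧ hg.1 < 9 ∧ hg.2 < 9 ∧ pts.getD hg.1 0 ≠ pts.getD 4 0 := by
          revert hg; decide +kernel
        rw [hk, hp]; exact h')
      (by rw [hZ, hk, hp]; exact scanS_ok) ha
    have hok : repsOK A.Z A.k A.pts prevN4 7 repsN4 = true := by rw [hZ, hk, hp]; exact repsN4_ok
    have ha' : ∀ hg ∈ prevN4, (A.f a ((fun r => τ (swapArm r)) hg.1)).1 = A.pts.getD hg.2 0 := fun hg h => by
      have h' : swapArm hg.1 = hg.1 ∧ hg ∈ prevS := by revert hg; decide +kernel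
      show (A.f a (τ (swapArm hg.1))).1 = _
      rw [h'.1]; exact ha hg h'.2
    refine ⟨fun r => τ (swapArm r), Or.inr rfl, ?_⟩
    obtain rfl | rfl : R = repN4_7 ∨ R = repN4_9 := by simpa using hR
    · exact finish A hZ hk hp hP' (A.state_of_member (R := repN4_7) (s := 7) hok (by simp [repsN4])
        (by rw [hZ, hk]; exact orbN4_7_ok) ha' hmem)
    · exact twisted hP' (A.state_of_member (R := repN4_9) (s := 7) hok (by simp [repsN4])
        (by rw [hZ, hk]; exact orbN4_9_ok) ha' hmem)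
  · exact ⟨τ, Or.inl rfl, twisted hP s4⟩

end Cfsg.Lib.Fischer.M23
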