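import Cfsg.Agent.Lib.Linear.OrthReflThreeStructure
import Cfsg.Agent.Lib.Fischer.TypeM23.ScanSwap

/-!
# Transposition classes of the projective seven-dimensional reflection group

A generating set of involutions, closed under conjugation and with products of order at most three, contains
the images of all reflections; so it contains eight members with the pattern of the diagram Y322.
-/

set_option autoImplicit false

namespace Cfsg.Lib.Fischer.M23

open Module Cfsg.Lib.Linear.Orth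
open scoped Matrix

local notation "V7" => Fin 7 → ZMod 3

variable {Q : V7 → ZMod 3} {B : LinearMap.BilinForm (ZMod 3) V7} (C : Space Q B) {c : ZMod 3}

theorem two_mul_ne {a : ZMod 3} (ha : a ≠ 0) : (2 : ZMod 3) * a ≠ 0 := by revert a; decide

theorem snoc_orth {k : ℕ} (f : Fin k → V7) (z : V7) (horth : ∀ i j, i ≠ j → B (f i) (f j) = 0)
    (hz : ∀ i, B (f i) z = 0) (hsymm : ∀ i, B z (f i) = 0) :
    ∀ i j, i ≠ j → B ((Fin.snoc f z : Fin (k + 1) → V7) i) ((Fin.snoc f z : Fin (k + 1) → V7) j) = 0 := by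
  intro i j
  refine Fin.lastCases ?_ (fun a => ?_) i <;> refine Fin.lastCases ?_ (fun b => ?_) j <;> intro hij
  · exact absurd rfl hij
  · simpa only [Fin.snoc_castSucc, Fin.snoc_last] using hsymm b
  · simpa only [Fin.snoc_castSucc, Fin.snoc_last] using hz a
  · simpa only [Fin.snoc_castSucc] using horth a b fun e => hij (by rw [e])

include C in
theorem orth_indep {κ : Type} [Fintype κ] (f : κ → V7) (hf : ∀ i, Q (f i) ≠ 0)
    (horth : ∀ i j, i ≠ j → B (f i) (f j) = 0) : LinearIndependent (ZMod 3) f := by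
  rw [Fintype.linearIndependent_iff]
  intro g hg i
  have h : B (f i) (∑ j, g j • f j) = 0 := by rw [hg, map_zero]
  rw [map_sum, Finset.sum_eq_single i (fun j _ hj => by rw [map_smul, horth i j (Ne.symm hj), smul_zero])
    (fun h => absurd (Finset.mem_univ i) h), map_smul, C.self, smul_eq_mul] at h
  exact (mul_eq_zero.1 h).resolve_right (two_mul_ne (hf i))

include C in
theorem orth_card_le {κ : Type} [Fintype κ] (f : κ → V7) (hf : ∀ i, Q (f i) ≠ 0)
    (horth : ∀ i j, i ≠ j → B (f i) (f j) = 0) : Fintype.card κ ≤ 7 := by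
  simpa using (orth_indep C f hf horth).fintype_card_le_finrank

include C in
/-- An orthogonal basis of norm `c`, from the discriminant. -/
theorem exists_basis_norm (hc : c ≠ 0) (hdisc : Cfsg.polarGramDet Q = -c) :
    ∃ f : Fin 7 → V7, (∀ i, Q (f i) = c) ∧ ∀ i j, i ≠ j → B (f i) (f j) = 0 := by
  have hsix : ∀ k ≤ 6, ∃ f : Fin k → V7, (∀ i, Q (f i) = c) ∧ ∀ i j, i ≠ j → B (f i) (f j) = 0 := by
    intro k hk
    induction k with
    | zero => exact ⟨Fin.elim0, fun i => i.elim0, fun i => i.elim0⟩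
    | succ k ih =>
      obtain ⟨f, hf, horth⟩ := ih (by omega)
      obtain ⟨z, hz, hqz⟩ := exists_norm_perp_family C f (by simp only [Fintype.card_fin]; omega)
        (fun i => (hf i) ▸ hc) horth hc
      exact ⟨Fin.snoc f z, fun i => Fin.lastCases (by simpa using hqz) (fun a => by simpa using hf a) i,
        snoc_orth f z horth hz fun i => (C.symm z (f i)).trans (hz i)⟩
  obtain ⟨f, hf, horth⟩ := hsix 6 le_rfl
  obtain ⟨z, hz, hqz⟩ := exists_nonsing_perp_family C zmod3_two_ne_zero f (by simp) (fun i => (hf i) ▸ hc) horth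
  have horth' := snoc_orth f z horth hz fun i => (C.symm z (f i)).trans (hz i)
  refine ⟨Fin.snoc f z, fun i => Fin.lastCases ?_ (fun a => by simpa using hf a) i, horth'⟩
  rw [Fin.snoc_last]
  set g : Fin 7 → V7 := Fin.snoc f z with hg
  let M : Matrix (Fin 7) (Fin 7) (ZMod 3) := Matrix.of fun i j => g j i
  let G : Matrix (Fin 7) (Fin 7) (ZMod 3) :=
    Matrix.of fun i j => QuadraticMap.polar Q (Pi.single i 1) (Pi.single j 1)
  have hMG : Mᵀ * G * M = Matrix.diagonal fun i => B (g i) (g i) := by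
    ext i j
    have hB : B (g i) (g j) = ∑ a, ∑ b, g i a * g j b * G a b := by
      have e : ∀ v : V7, v = ∑ a, v a • Pi.single a (1 : ZMod 3) := fun v => pi_eq_sum_univ' v
      calc B (g i) (g j) = B (∑ a, g i a • Pi.single a (1 : ZMod 3)) (∑ b, g j b • Pi.single b (1 : ZMod 3)) := by
            rw [← e, ← e]
        _ = _ := by
            simp only [map_sum, LinearMap.sum_apply, map_smul, LinearMap.smul_apply, Finset.smul_sum, smul_eq_mul]
            rw [Finset.sum_comm]
            refine Finset.sum_congr rfl fun b _ => ?_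
            rw [Finset.mul_sum]
            refine Finset.sum_congr rfl fun a _ => ?_
            rw [show G a b = B (Pi.single a 1) (Pi.single b 1) from C.polar _ _]
            ring
    rw [Matrix.diagonal_apply]
    have hval : (Mᵀ * G * M) i j = B (g i) (g j) := by
      rw [hB, Matrix.mul_apply, Finset.sum_comm]
      refine Finset.sum_congr rfl fun b _ => ?_
      rw [Matrix.mul_apply, Finset.sum_mul]
      refine Finset.sum_congr rfl fun a _ => ?_
      simp only [M, Matrix.transpose_apply, Matrix.of_apply]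
      ring
    rw [hval]
    split_ifs with h
    · rw [h]
    · exact horth' i j h
  have hdet := congrArg Matrix.det hMG
  rw [Matrix.det_mul, Matrix.det_mul, Matrix.det_transpose, Matrix.det_diagonal, Fin.prod_univ_castSucc,
    show G.det = -c from hdisc] at hdet
  simp only [hg, Fin.snoc_castSucc, Fin.snoc_last, C.self, hf, Finset.prod_const, Finset.card_univ,
    Fintype.card_fin] at hdet
  have key : ∀ a q d : ZMod 3, a ≠ 0 → q ≠ 0 → d * -a * d = (2 * a) ^ 6 * (2 * q) → q = a := by decide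
  exact key c _ _ hc hqz hdet

variable {f : Fin 7 → V7}

include C in
theorem gl_ext_basis (hf : ∀ i, Q (f i) ≠ 0) (horth : ∀ i j, i ≠ j → B (f i) (f j) = 0)
    {g h : GL (Fin 7) (ZMod 3)} (e : ∀ i, g.val *ᵥ f i = h.val *ᵥ f i) : g = h := by
  refine gl_ext fun x => ?_
  have htop := (orth_indep C f hf horth).span_eq_top_of_card_eq_finrank (by simp)
  have : Matrix.mulVecLin g.val = Matrix.mulVecLin h.val :=
    LinearMap.ext_on_range htop fun i => by simpa using e i
  simpa using LinearMap.congr_fun this x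

local notation "RS" => Cfsg.reflectionSubgroup Q c

/-- The group of reflections inside the linear group. -/
noncomputable def toGL7 : ↥RS →* GL (Fin 7) (ZMod 3) :=
  (isometryGroup (ZMod 3) Q).subtype.comp (Cfsg.reflectionSubgroup Q c).subtype

theorem toGL7_inj : Function.Injective (toGL7 (Q := Q) (c := c)) := fun _ _ e => Subtype.ext (Subtype.ext e)

theorem toGL7_iso (g : ↥RS) : toGL7 g ∈ isometryGroup (ZMod 3) Q :=
  (g : ↥(isometryGroup (ZMod 3) Q)).2

include C in
theorem rGL_mem_range (hc : c ≠ 0) {v : V7} (hv : Q v = c) :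
    rGL Q v ∈ (toGL7 (Q := Q) (c := c)).range :=
  ⟨⟨rI C v (hv ▸ hc), rI_mem_reflectionSubgroup C hc hv⟩, rfl⟩

include C in
/-- A reflection of the other norm is not in the group. -/
theorem rGL_not_mem_range (hc : c ≠ 0) {w : V7} (hw : Q w = -c) :
    rGL Q w ∉ (toGL7 (Q := Q) (c := c)).range := by
  rintro ⟨g, hg⟩
  have hwne : Q w ≠ 0 := by rw [hw]; exact neg_ne_zero.mpr hc
  have hwR : rI C w hwne ∈ RS := by
    rw [show rI C w hwne = (g : ↥(isometryGroup (ZMod 3) Q)) from Subtype.ext hg.symm]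
    exact g.2
  have htop : RS = ⊤ := by
    refine eq_top_iff.2 fun x _ => ?_
    refine refl_induction C (Or.inl (by rw [ZMod.card]; norm_num)) (fun y => y ∈ RS) (one_mem _)
      (fun v hv y hy => mul_mem ?_ hy) x
    rcases zmod3_eq_or_neg hv hc with h | h
    · exact rI_mem_reflectionSubgroup C hc h
    · have := mul_mem (rI_mul_mem C (by simp) hc h hw) hwR
      rwa [mul_assoc, rI_sq C hwne, mul_one] at this
  have h2 := reflectionSubgroup_index C (by simp) hc
  rw [htop, Subgroup.index_top] at h2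
  norm_num at h2

include C in
theorem rGL_det_neg {v : V7} (hv : Q v ≠ 0) : (rGL Q v).val.det = -1 := rGL_det C hv

include C in
theorem rGL_ne_neg_rGL {v w : V7} (hv : Q v ≠ 0) (hw : Q w ≠ 0) {u : V7} (hu : Q u ≠ 0) :
    rGL Q v * rGL Q w ≠ -(rGL Q u * rGL Q v) := by
  intro h
  have e := congrArg (fun x : GL (Fin 7) (ZMod 3) => x.val.det) h
  simp only [Units.val_mul, Units.val_neg, Matrix.det_mul, Matrix.det_neg, rGL_det_neg C hv, rGL_det_neg C hw,
    rGL_det_neg C hu, Fintype.card_fin] at e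
  revert e
  decide

include C in
theorem neg_one_mem_range (hc : c ≠ 0) (hf : ∀ i, Q (f i) = c) (horth : ∀ i j, i ≠ j → B (f i) (f j) = 0) :
    (-1 : GL (Fin 7) (ZMod 3)) ∈ (toGL7 (Q := Q) (c := c)).range := by
  have h : ∀ n ≤ 7, ∃ g ∈ (toGL7 (Q := Q) (c := c)).range,
      ∀ i : Fin 7, g.val *ᵥ f i = if i.1 < n then -f i else f i := by
    intro n hn
    induction n with
    | zero => exact ⟨1, one_mem _, fun i => by simp⟩
    | succ n ih =>
      obtain ⟨g, hg, hact⟩ := ih (by omega)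
      refine ⟨rGL Q (f ⟨n, by omega⟩) * g, mul_mem (rGL_mem_range C hc (hf _)) hg, fun i => ?_⟩
      have hne : Q (f ⟨n, by omega⟩) ≠ 0 := by rw [hf]; exact hc
      rw [mul_act, hact]
      by_cases hi : i.1 = n
      · have hi' : i = ⟨n, by omega⟩ := Fin.ext hi
        rw [if_neg (by omega), if_pos (by omega), hi', rGL_self C hne]
      · have h0 := horth ⟨n, by omega⟩ i fun e => hi (by rw [← e])
        split_ifs with h1 h2 h2 <;> try omega
        · rw [Matrix.mulVec_neg, rGL_fix C hne h0]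
        · exact rGL_fix C hne h0
  obtain ⟨g, hg, hact⟩ := h 7 le_rfl
  convert hg using 1
  refine gl_ext_basis C (fun i => (hf i) ▸ hc) horth fun i => ?_
  rw [hact, if_pos i.2, Units.val_neg, Units.val_one, Matrix.neg_mulVec, Matrix.one_mulVec]

include C in
theorem center_pm (hc : c ≠ 0) (hf : ∀ i, Q (f i) = c) (horth : ∀ i j, i ≠ j → B (f i) (f j) = 0)
    {g : ↥RS} (hg : g ∈ Subgroup.center ↥RS) : toGL7 g = 1 ∨ toGL7 g = -1 := by
  have hne : ∀ i, Q (f i) ≠ 0 := fun i => (hf i) ▸ hc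
  have hscal : ∀ v, Q v = c → ∃ k : ZMod 3, (toGL7 g).val *ᵥ v = k • v := by
    intro v hv
    have hvne : Q v ≠ 0 := hv ▸ hc
    obtain ⟨r, hr⟩ := rGL_mem_range C hc hv
    have e : rGL Q ((toGL7 g).val *ᵥ v) = rGL Q v := by
      rw [← rGL_conj C hvne (toGL7_iso g), ← hr, ← map_mul, ← Subgroup.mem_center_iff.mp hg r, map_mul,
        mul_inv_cancel_right]
    have hu : Q ((toGL7 g).val *ᵥ v) ≠ 0 := by rw [mem_iso.mp (toGL7_iso g)]; exact hvne
    have e2 := rGL_self C hvne
    rw [← e, rGL_act C hu] at e2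
    generalize (toGL7 g).val *ᵥ v = u at e2 hu ⊢
    generalize (Q u)⁻¹ * B u v = k at e2
    have h2 : k • u = (2 : ZMod 3) • v := by linear_combination (norm := module) -e2
    by_cases hk : k = 0
    · rw [hk, zero_smul] at h2
      exact absurd (by rw [(smul_eq_zero.1 h2.symm).resolve_left zmod3_two_ne_zero, C.zero]) hvne
    · exact ⟨k⁻¹ * 2, by rw [mul_smul, ← h2, inv_smul_smul₀ hk]⟩
  choose k hk using fun i => hscal (f i) (hf i)
  have hfour : ∀ i j l m : Fin 7, i ≠ j → i ≠ l → i ≠ m → j ≠ l → j ≠ m → l ≠ m → k i = k j := by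
    intro i j l m hij hil him hjl hjm hlm
    have hq : Q (f i + f j + f l + f m) = c := by
      simp only [C.add, hf, horth i j hij, map_add, LinearMap.add_apply, horth i l hil, horth j l hjl,
        horth i m him, horth j m hjm, horth l m hlm, add_zero]
      have key : ∀ a : ZMod 3, a + a + a + a = a := by decide
      exact key c
    obtain ⟨s, hs⟩ := hscal _ hq
    rw [Matrix.mulVec_add, Matrix.mulVec_add, Matrix.mulVec_add, hk, hk, hk, hk] at hs
    have get : ∀ a : Fin 7, B (f a) (k i • f i + k j • f j + k l • f l + k m • f m) =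
        B (f a) (s • (f i + f j + f l + f m)) := fun a => by rw [hs]
    have h1 := get i
    have h2 := get j
    simp only [map_add, map_smul, smul_eq_mul, C.self, hf, horth i j hij, horth i l hil, horth i m him,
      horth j i (Ne.symm hij), horth j l hjl, horth j m hjm, mul_zero, add_zero, zero_add] at h1 h2
    exact (mul_right_cancel₀ (two_mul_ne hc) h1).trans (mul_right_cancel₀ (two_mul_ne hc) h2).symm
  have hconst : ∀ i : Fin 7, k i = k 0 := by
    intro i
    fin_cases i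
    · rfl
    · exact hfour 1 0 2 3 (by decide) (by decide) (by decide) (by decide) (by decide) (by decide)
    · exact hfour 2 0 1 3 (by decide) (by decide) (by decide) (by decide) (by decide) (by decide)
    · exact hfour 3 0 1 2 (by decide) (by decide) (by decide) (by decide) (by decide) (by decide)
    · exact hfour 4 0 1 2 (by decide) (by decide) (by decide) (by decide) (by decide) (by decide)
    · exact hfour 5 0 1 2 (by decide) (by decide) (by decide) (by decide) (by decide) (by decide)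
    · exact hfour 6 0 1 2 (by decide) (by decide) (by decide) (by decide) (by decide) (by decide)
  have h0 : k 0 ≠ 0 := fun h => hne 0 <| by
    rw [← mem_iso.mp (toGL7_iso g) (f 0), hk, h, zero_smul, C.zero]
  rcases zmod3_eq_or_neg h0 (one_ne_zero (α := ZMod 3)) with h | h
  · left
    refine gl_ext_basis C hne horth fun i => ?_
    rw [hk, hconst, h, one_smul, Units.val_one, Matrix.one_mulVec]
  · right
    refine gl_ext_basis C hne horth fun i => ?_
    rw [hk, hconst, h, neg_one_smul, Units.val_neg, Units.val_one, Matrix.neg_mulVec, Matrix.one_mulVec]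

include C in
/-- An involution negates an orthogonal family and fixes what is orthogonal to it. -/
theorem exists_family {g : GL (Fin 7) (ZMod 3)} (hg : g ∈ isometryGroup (ZMod 3) Q) (h2 : g * g = 1) :
    ∃ k, ∃ e : Fin k → V7, (∀ i, Q (e i) ≠ 0) ∧ (∀ i j, i ≠ j → B (e i) (e j) = 0) ∧
      (∀ i, g.val *ᵥ e i = -e i) ∧ ∀ z, (∀ i, B (e i) z = 0) → g.val *ᵥ z = z := by
  have hgg : ∀ z, g.val *ᵥ (g.val *ᵥ z) = z := fun z => by
    rw [← mul_act, h2, Units.val_one, Matrix.one_mulVec]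
  suffices h : ∀ n k, 7 ≤ n + k → ∀ e : Fin k → V7, (∀ i, Q (e i) ≠ 0) →
      (∀ i j, i ≠ j → B (e i) (e j) = 0) → (∀ i, g.val *ᵥ e i = -e i) →
      ∃ k, ∃ e : Fin k → V7, (∀ i, Q (e i) ≠ 0) ∧ (∀ i j, i ≠ j → B (e i) (e j) = 0) ∧
        (∀ i, g.val *ᵥ e i = -e i) ∧ ∀ z, (∀ i, B (e i) z = 0) → g.val *ᵥ z = z from
    h 7 0 le_rfl Fin.elim0 (fun i => i.elim0) (fun i => i.elim0) (fun i => i.elim0)
  intro n
  induction n with
  | zero =>
    intro k hk e he horth hneg
    refine ⟨k, e, he, horth, hneg, fun z hz => ?_⟩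
    have hli := orth_indep C e he horth
    have h7 : Fintype.card (Fin k) = finrank (ZMod 3) V7 := by
      have := orth_card_le C e he horth
      simp at this ⊢
      omega
    have hz0 : z = 0 := by
      refine C.nondeg' fun x => ?_
      have hx : x ∈ Submodule.span (ZMod 3) (Set.range e) := by
        rw [hli.span_eq_top_of_card_eq_finrank' h7]; trivial
      induction hx using Submodule.span_induction with
      | mem y hy => obtain ⟨i, rfl⟩ := hy; rw [C.symm]; exact hz i
      | zero => simp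
      | add a b _ _ ha hb => rw [map_add, ha, hb, add_zero]
      | smul a b _ hb => rw [map_smul, hb, smul_zero]
    rw [hz0, Matrix.mulVec_zero]
  | succ n ih =>
    intro k hk e he horth hneg
    by_cases hfix : ∀ z, (∀ i, B (e i) z = 0) → g.val *ᵥ z = z
    · exact ⟨k, e, he, horth, hneg, hfix⟩
    push Not at hfix
    obtain ⟨z, hz, hgz⟩ := hfix
    have hW : ∀ y, (∀ i, B (e i) y = 0) → ∀ i, B (e i) (y - g.val *ᵥ y) = 0 := fun y hy i => by
      have := C.B_act hg (e i) y
      rw [hneg, map_neg, LinearMap.neg_apply, hy] at this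
      rw [map_sub, hy, zero_sub, this]
    have hgW : ∀ y, g.val *ᵥ (y - g.val *ᵥ y) = -(y - g.val *ᵥ y) := fun y => by
      rw [Matrix.mulVec_sub, hgg, neg_sub]
    obtain ⟨u, hu, hqu, hgu⟩ : ∃ u, (∀ i, B (e i) u = 0) ∧ Q u ≠ 0 ∧ g.val *ᵥ u = -u := by
      set z' := z - g.val *ᵥ z with hz'
      have hz'0 : z' ≠ 0 := sub_ne_zero.2 (Ne.symm hgz)
      by_cases h1 : Q z' = 0
      swap
      · exact ⟨z', hW z hz, h1, hgW z⟩
      obtain ⟨y0, hy0⟩ := C.exists_pair hz'0
      obtain ⟨y, hy⟩ : ∃ y, y = y0 - ∑ i, (B (e i) y0 / B (e i) (e i)) • e i := ⟨_, rfl⟩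
      have hey : ∀ j, B (e j) y = 0 := fun j => by
        rw [hy, map_sub, map_sum, Finset.sum_eq_single j
          (fun i _ hi => by rw [map_smul, horth j i (Ne.symm hi), smul_zero])
          (fun h => absurd (Finset.mem_univ j) h), map_smul, smul_eq_mul,
          div_mul_cancel₀ _ (by rw [C.self]; exact two_mul_ne (he j)), sub_self]
      have hzy : B z' y = 1 := by
        rw [hy, map_sub, map_sum, Finset.sum_eq_zero (fun i _ => by
          rw [map_smul, C.symm z' (e i), hW z hz i, smul_zero]), sub_zero, hy0]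
      set y' := y - g.val *ᵥ y with hy'
      have hzy' : B z' y' = 2 := by
        have := C.B_act hg z' y
        rw [show g.val *ᵥ z' = -z' from hgW z, map_neg, LinearMap.neg_apply, hzy, neg_eq_iff_eq_neg] at this
        rw [hy', map_sub, hzy, this]
        ring
      by_cases h2' : Q y' = 0
      swap
      · exact ⟨y', hW y hey, h2', hgW y⟩
      refine ⟨z' + y', fun i => by rw [map_add, hW z hz, hW y hey, add_zero], ?_, ?_⟩
      · rw [C.add, h1, h2', hzy', zero_add, zero_add]; decide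
      · rw [Matrix.mulVec_add, show g.val *ᵥ z' = -z' from hgW z, hgW y, neg_add]
    exact ih (k + 1) (by omega) (Fin.snoc e u)
      (fun i => Fin.lastCases (by simpa using hqu) (fun a => by simpa using he a) i)
      (snoc_orth e u horth hu fun i => (C.symm u (e i)).trans (hu i))
      (fun i => Fin.lastCases (by simpa using hgu) (fun a => by simpa using hneg a) i)

/-- Two involutions with product of order dividing two or three, modulo signs. -/
def ShortProd (g h : GL (Fin 7) (ZMod 3)) : Prop :=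
  ((g * h) ^ 2 = 1 ∨ (g * h) ^ 2 = -1) ∨ ((g * h) ^ 3 = 1 ∨ (g * h) ^ 3 = -1)

include C in
theorem rGL3_pair_perp {u v : V7} (h : B u v = 0) (hu : Q u ≠ 0) (hv : Q v ≠ 0) :
    rGL Q u * rGL Q v = rGL Q v * rGL Q u := by
  have e := rGL_conj C hv (rGL_mem C hu)
  rw [rGL_fix C hu h] at e
  exact mul_inv_eq_iff_eq_mul.1 e

include C in
theorem mem_range_of_two (hc : c ≠ 0) {w : V7} (hw : Q w = -c) {t : GL (Fin 7) (ZMod 3)}
    {ht : t ∈ isometryGroup (ZMod 3) Q} (hn : t ∉ (toGL7 (Q := Q) (c := c)).range) :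
    t * rGL Q w ∈ (toGL7 (Q := Q) (c := c)).range := by
  have hwne : Q w ≠ 0 := by rw [hw]; exact neg_ne_zero.mpr hc
  have h1 : (⟨t, ht⟩ : ↥(isometryGroup (ZMod 3) Q)) ∉ RS := fun h => hn ⟨⟨_, h⟩, rfl⟩
  have h2 : rI C w hwne ∉ RS := fun h => rGL_not_mem_range C hc hw ⟨⟨_, h⟩, rfl⟩
  exact ⟨⟨⟨t, ht⟩ * rI C w hwne, (Subgroup.mul_mem_iff_of_index_two
    (reflectionSubgroup_index C (by simp) hc)).2 (iff_of_false h1 h2)⟩, rfl⟩

include C in
/-- An involution with a negated plane and a big fixed space has a conjugate with a product of order six. -/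
theorem long_product (hc : c ≠ 0) {g : GL (Fin 7) (ZMod 3)} (hg : g ∈ isometryGroup (ZMod 3) Q) (h2 : g * g = 1)
    {k : ℕ} (hk2 : 2 ≤ k) (hk3 : k ≤ 3) {e : Fin k → V7} (he : ∀ i, Q (e i) ≠ 0)
    (horth : ∀ i j, i ≠ j → B (e i) (e j) = 0) (hneg : ∀ i, g.val *ᵥ e i = -e i)
    (hfix : ∀ z, (∀ i, B (e i) z = 0) → g.val *ᵥ z = z) :
    ∃ h ∈ (toGL7 (Q := Q) (c := c)).range, ¬ ShortProd g (h * g * h⁻¹) := by
  obtain ⟨a, ha⟩ : ∃ a, a = e ⟨0, by omega⟩ := ⟨_, rfl⟩
  obtain ⟨b, hb⟩ : ∃ b, b = e ⟨1, by omega⟩ := ⟨_, rfl⟩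
  have hab : B a b = 0 := by rw [ha, hb]; exact horth _ _ (by simp)
  obtain ⟨f1, hf1, hqf1⟩ := exists_norm_perp_family C e (by simp; omega) he horth (he ⟨1, by omega⟩)
  have o1 := snoc_orth e f1 horth hf1 fun i => (C.symm f1 (e i)).trans (hf1 i)
  have n1 : ∀ i, Q ((Fin.snoc e f1 : Fin (k + 1) → V7) i) ≠ 0 := fun i =>
    Fin.lastCases (by simpa [hqf1] using he ⟨1, by omega⟩) (fun i => by simpa using he i) i
  obtain ⟨f2, hf2, hqf2⟩ := exists_norm_perp_family C _ (by simp; omega) n1 o1 (one_ne_zero (α := ZMod 3))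
  have o2 := snoc_orth _ f2 o1 hf2 fun i => (C.symm f2 _).trans (hf2 i)
  have n2 : ∀ i, Q ((Fin.snoc (Fin.snoc e f1) f2 : Fin (k + 1 + 1) → V7) i) ≠ 0 := fun i =>
    Fin.lastCases (by simp [hqf2]) (fun i => by simpa using n1 i) i
  obtain ⟨f3, hf3, hqf3⟩ := exists_norm_perp_family C _ (by simp; omega) n2 o2
    (neg_ne_zero.2 (one_ne_zero (α := ZMod 3)))
  have hf2e : ∀ i, B (e i) f2 = 0 := fun i => by simpa using hf2 i.castSucc
  have hf12 : B f1 f2 = 0 := by simpa using hf2 (Fin.last k)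
  have hf3e : ∀ i, B (e i) f3 = 0 := fun i => by simpa using hf3 i.castSucc.castSucc
  have hf13 : B f1 f3 = 0 := by simpa using hf3 (Fin.last k).castSucc
  have hf23 : B f2 f3 = 0 := by simpa using hf3 (Fin.last (k + 1))
  obtain ⟨f4, hf4, hqf4⟩ := exists_norm_perp_family C e (by simp; omega) he horth (neg_ne_zero.2 hc)
  have hqf1' : Q f1 = Q b := by rw [hb]; exact hqf1
  have hqa : Q a ≠ 0 := ha ▸ he _
  have hqb : Q b ≠ 0 := hb ▸ he _
  have ga : g.val *ᵥ a = -a := by rw [ha]; exact hneg _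
  have gb : g.val *ᵥ b = -b := by rw [hb]; exact hneg _
  have g1 : g.val *ᵥ f1 = f1 := hfix _ hf1
  have g2 : g.val *ᵥ f2 = f2 := hfix _ hf2e
  have g3 : g.val *ᵥ f3 = f3 := hfix _ hf3e
  have g4 : g.val *ᵥ f4 = f4 := hfix _ hf4
  have hba : B b a = 0 := by rw [C.symm]; exact hab
  have ha1 : B a f1 = 0 := ha ▸ hf1 _
  have ha2 : B a f2 = 0 := ha ▸ hf2e _
  have ha3 : B a f3 = 0 := ha ▸ hf3e _
  have hb1 : B b f1 = 0 := hb ▸ hf1 _
  have hb2 : B b f2 = 0 := hb ▸ hf2e _
  have hb3 : B b f3 = 0 := hb ▸ hf3e _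
  obtain ⟨x, hx⟩ : ∃ x, x = a + (f2 + f3) := ⟨_, rfl⟩
  obtain ⟨x', hx'⟩ : ∃ x', x' = -a + (f2 + f3) := ⟨_, rfl⟩
  obtain ⟨y, hy⟩ : ∃ y, y = b + f1 := ⟨_, rfl⟩
  obtain ⟨y', hy'⟩ : ∃ y', y' = -b + f1 := ⟨_, rfl⟩
  have hqx : Q x = Q a := by
    simp only [hx, C.add, map_add, ha2, ha3, hqf2, hqf3, hf23]; ring
  have hqx' : Q x' = Q a := by
    simp only [hx', C.add, C.neg, map_add, map_neg, LinearMap.neg_apply, ha2, ha3, hqf2, hqf3, hf23]; ring
  have hqy : Q y = -Q b := by
    simp only [hy, C.add, hb1, hqf1']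
    have key : ∀ s : ZMod 3, s + s + 0 = -s := by decide
    exact key _
  have hqy' : Q y' = -Q b := by
    simp only [hy', C.add, C.neg, map_neg, LinearMap.neg_apply, hb1, hqf1']
    have key : ∀ s : ZMod 3, s + s + -0 = -s := by decide
    exact key _
  have hx1 : Q x ≠ 0 := hqx ▸ hqa
  have hx1' : Q x' ≠ 0 := hqx' ▸ hqa
  have hy1 : Q y ≠ 0 := hqy ▸ neg_ne_zero.2 hqb
  have hy1' : Q y' ≠ 0 := hqy' ▸ neg_ne_zero.2 hqb
  have cross : ∀ s t : V7, (s = x ∨ s = x') → (t = y ∨ t = y') → B s t = 0 := by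
    rintro s t (rfl | rfl) (rfl | rfl) <;>
      simp only [hx, hx', hy, hy', map_add, map_neg, LinearMap.add_apply, LinearMap.neg_apply, hab, ha1,
        C.symm f2 b, C.symm f3 b, hb2, hb3, C.symm f2 f1, C.symm f3 f1, hf12, hf13, neg_zero, add_zero]
  have hyy : B y y' = 0 := by
    simp only [hy, hy', map_add, map_neg, LinearMap.add_apply, C.self, hb1, C.symm f1 b, hqf1']
    ring
  have hBx : B x x' ≠ 0 := by
    have : B x x' = -(2 * Q a) := by
      simp only [hx, hx', map_add, map_neg, LinearMap.add_apply, C.self, ha2, ha3, C.symm f2 a, C.symm f3 a,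
        hf23, C.symm f3 f2, hqf2, hqf3]
      ring
    rw [this, neg_ne_zero]
    exact two_mul_ne hqa
  have gx : g.val *ᵥ x = x' := by rw [hx, hx', Matrix.mulVec_add, Matrix.mulVec_add, ga, g2, g3]
  have gy : g.val *ᵥ y = y' := by rw [hy, hy', Matrix.mulVec_add, gb, g1]
  have cxy := (rGL3_pair_perp C (cross x y (Or.inl rfl) (Or.inl rfl)) hx1 hy1)
  have cx'y := (rGL3_pair_perp C (cross x' y (Or.inr rfl) (Or.inl rfl)) hx1' hy1)
  have cxy' := (rGL3_pair_perp C (cross x y' (Or.inl rfl) (Or.inr rfl)) hx1 hy1')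
  have cx'y' := (rGL3_pair_perp C (cross x' y' (Or.inr rfl) (Or.inr rfl)) hx1' hy1')
  have cyy : rGL Q y * rGL Q y' = rGL Q y' * rGL Q y :=
    (rGL3_pair C hy1 (hqy.trans hqy'.symm)).1 hyy
  have cg4 : rGL Q f4 * g * (rGL Q f4)⁻¹ = g := by
    have h4 : Q f4 ≠ 0 := hqf4 ▸ neg_ne_zero.2 hc
    have := rGL_conj C h4 hg
    rw [g4] at this
    calc rGL Q f4 * g * (rGL Q f4)⁻¹ = g * rGL Q f4 * g⁻¹ * g * (rGL Q f4)⁻¹ := by rw [this]
      _ = g := by simp only [mul_assoc, inv_mul_cancel_left, mul_inv_cancel, mul_one]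
  -- the conjugating element, corrected into the group
  obtain ⟨h, hh, hconj⟩ : ∃ h ∈ (toGL7 (Q := Q) (c := c)).range,
      h * g * h⁻¹ = rGL Q x * rGL Q y * g * (rGL Q x * rGL Q y)⁻¹ := by
    by_cases hin : rGL Q x * rGL Q y ∈ (toGL7 (Q := Q) (c := c)).range
    · exact ⟨_, hin, rfl⟩
    refine ⟨rGL Q x * rGL Q y * rGL Q f4, mem_range_of_two C hc hqf4 (ht := mul_mem (rGL_mem C hx1) (rGL_mem C hy1)) hin, ?_⟩
    conv_rhs => rw [← cg4]
    group
  refine ⟨h, hh, ?_⟩
  have hgi : g⁻¹ = g := inv_eq_of_mul_eq_one_right h2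
  have gxg : g * rGL Q x * g = rGL Q x' := by
    have := rGL_conj C hx1 hg
    rwa [hgi, gx] at this
  have gyg : g * rGL Q y * g = rGL Q y' := by
    have := rGL_conj C hy1 hg
    rwa [hgi, gy] at this
  have hP : g * (h * g * h⁻¹) = rGL Q x' * rGL Q x * (rGL Q y' * rGL Q y) := by
    rw [hconj, mul_inv_rev, rGL_inv C hx1, rGL_inv C hy1]
    calc g * (rGL Q x * rGL Q y * g * (rGL Q y * rGL Q x))
        = g * rGL Q x * (g * g) * rGL Q y * g * (rGL Q y * rGL Q x) := by
          rw [h2, mul_one]; simp only [mul_assoc]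
      _ = (g * rGL Q x * g) * (g * rGL Q y * g) * (rGL Q y * rGL Q x) := by simp only [mul_assoc]
      _ = rGL Q x' * (rGL Q y' * rGL Q y * rGL Q x) := by rw [gxg, gyg]; simp only [mul_assoc]
      _ = rGL Q x' * (rGL Q y' * (rGL Q x * rGL Q y)) := by rw [cxy]; simp only [mul_assoc]
      _ = rGL Q x' * (rGL Q x * (rGL Q y' * rGL Q y)) := by
          rw [← mul_assoc (rGL Q y') (rGL Q x), ← cxy']; simp only [mul_assoc]
      _ = rGL Q x' * rGL Q x * (rGL Q y' * rGL Q y) := by simp only [mul_assoc]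
  set A := rGL Q x' * rGL Q x with hA
  set Bm := rGL Q y' * rGL Q y with hBm
  have hAB : A * Bm = Bm * A := by
    rw [hA, hBm]
    calc rGL Q x' * rGL Q x * (rGL Q y' * rGL Q y) = rGL Q x' * (rGL Q x * rGL Q y') * rGL Q y := by
          simp only [mul_assoc]
      _ = rGL Q x' * rGL Q y' * (rGL Q x * rGL Q y) := by rw [cxy']; simp only [mul_assoc]
      _ = rGL Q y' * (rGL Q x' * rGL Q y) * rGL Q x := by rw [cx'y', cxy]; simp only [mul_assoc]
      _ = rGL Q y' * rGL Q y * (rGL Q x' * rGL Q x) := by rw [cx'y]; simp only [mul_assoc]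
  have hne : rGL Q x' ≠ rGL Q x := by
    obtain ⟨s, hs⟩ : ∃ s, Q a + s = 0 := ⟨-Q a, add_neg_cancel _⟩
    refine rGL_ne_of_witness C hx1' hx1 (y := a + (-s) • f2) ?_ ?_
    · simp only [hx', map_add, map_neg, map_smul, LinearMap.add_apply, LinearMap.neg_apply, smul_eq_mul, C.self,
        hqf2, ha2, C.symm f2 a, C.symm f3 a, ha3, C.symm f3 f2, hf23]
      rw [← neg_eq_of_add_eq_zero_right hs]
      ring
    · simp only [hx, map_add, map_smul, LinearMap.add_apply, smul_eq_mul, C.self, hqf2, ha2, C.symm f2 a,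
        C.symm f3 a, ha3, C.symm f3 f2, hf23]
      rw [← neg_eq_of_add_eq_zero_right hs]
      have key : ∀ q : ZMod 3, q ≠ 0 → 2 * q + (0 + 0) + -(-q) * (0 + (2 * 1 + 0)) ≠ 0 := by
        decide
      exact key _ hqa
  have hA3 : A ^ 3 = 1 := by
    rcases rGL3_pow C hx1' (hqx'.trans hqx.symm) with h0 | h0
    · exfalso
      have hcm : Commute (rGL Q x') (rGL Q x) := by
        rw [pow_two] at h0
        have := eq_inv_of_mul_eq_one_right h0
        rw [mul_inv_rev, rGL_inv C hx1, rGL_inv C hx1'] at this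
        exact this
      rcases (rGL3_commute_iff C hx1' (hqx'.trans hqx.symm)).1.1 hcm with h1 | h1
      · exact hBx (by rw [C.symm]; exact h1)
      · exact hne h1
    · exact h0
  have hB2 : Bm ^ 2 = 1 := by
    rw [pow_two, hBm]
    calc rGL Q y' * rGL Q y * (rGL Q y' * rGL Q y) = rGL Q y' * (rGL Q y * rGL Q y') * rGL Q y := by
          simp only [mul_assoc]
      _ = rGL Q y' * rGL Q y' * (rGL Q y * rGL Q y) := by rw [cyy, hBm]; simp only [mul_assoc]
      _ = 1 := by rw [rGL_sq C hy1', rGL_sq C hy1, one_mul]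
  have fixA : A.val *ᵥ b = b := by
    rw [hA, mul_act, rGL_fix C hx1, rGL_fix C hx1'] <;>
      simp only [hx, hx', map_add, map_neg, LinearMap.add_apply, LinearMap.neg_apply, hab, C.symm f2 b, hb2,
        C.symm f3 b, hb3, neg_zero, add_zero]
  have fixB : Bm.val *ᵥ a = a := by
    rw [hBm, mul_act, rGL_fix C hy1, rGL_fix C hy1'] <;>
      simp only [hy, hy', map_add, map_neg, LinearMap.add_apply, LinearMap.neg_apply, hba, C.symm f1 a, ha1,
        neg_zero, add_zero]
  have notneg : ∀ {X : GL (Fin 7) (ZMod 3)} {v : V7}, Q v ≠ 0 → X.val *ᵥ v = v → X ≠ -1 := by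
    intro X v hv h e
    rw [e, Units.val_neg, Units.val_one, Matrix.neg_mulVec, Matrix.one_mulVec] at h
    have key : ∀ t : ZMod 3, -t = t → t = 0 := by decide
    exact hv (by rw [show v = 0 from funext fun i => key _ (congrFun h i), C.zero])
  have hA1 : A ≠ 1 := fun h0 => hne (by
    have := eq_inv_of_mul_eq_one_left h0
    rwa [rGL_inv C hx1] at this)
  have hB1 : Bm ≠ 1 := fun h0 => (rGL3_commute_iff C hy1 (hqy.trans hqy'.symm)).2 hyy (by
    have := eq_inv_of_mul_eq_one_left h0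
    rw [rGL_inv C hy1] at this
    exact this.symm)
  intro hshort
  rw [ShortProd, hP, Commute.mul_pow hAB, Commute.mul_pow hAB, hB2, hA3, mul_one, one_mul,
    show Bm ^ 3 = Bm by rw [pow_succ, hB2, one_mul]] at hshort
  rcases hshort with (h0 | h0) | (h0 | h0)
  · refine hA1 ?_
    rw [pow_succ, h0, one_mul] at hA3
    exact hA3
  · refine notneg hqb fixA ?_
    rw [pow_succ, h0] at hA3
    have := congrArg (fun t : GL (Fin 7) (ZMod 3) => (-1 : GL (Fin 7) (ZMod 3)) * t) hA3
    simpa using this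
  · exact hB1 h0
  · exact notneg hqa fixB h0

section Classify

variable {X : Type*} [Group X] (π : ↥(Cfsg.reflectionSubgroup Q c) →* X)

include C in
theorem proj_eq_iff (hc : c ≠ 0) (hf : ∀ i, Q (f i) = c) (horth : ∀ i j, i ≠ j → B (f i) (f j) = 0)
    (hker : π.ker = Subgroup.center ↥RS) {g h : ↥RS} :
    π g = π h ↔ toGL7 g = toGL7 h ∨ toGL7 g = -toGL7 h := by
  have hm : π g = π h ↔ g⁻¹ * h ∈ Subgroup.center ↥RS := by
    rw [← hker, MonoidHom.mem_ker, map_mul, map_inv, inv_mul_eq_one]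
  rw [hm]
  constructor
  · intro hz
    have e : toGL7 h = toGL7 g * toGL7 (g⁻¹ * h) := by rw [← map_mul, mul_inv_cancel_left]
    rcases center_pm C hc hf horth hz with h1 | h1 <;> rw [h1] at e
    · exact Or.inl (by rw [e, mul_one])
    · exact Or.inr (by rw [e, mul_neg, mul_one, neg_neg])
  · intro h0
    rw [Subgroup.mem_center_iff]
    intro z
    apply toGL7_inj
    rw [map_mul, map_mul, map_mul, map_inv]
    rcases h0 with h0 | h0 <;> simp [h0]

include C in
theorem rGL_ne_pm (hc : c ≠ 0) {v : V7} (hv : Q v = c) : rGL Q v ≠ 1 ∧ rGL Q v ≠ -1 := by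
  refine ⟨rGL3_ne_one C (hv ▸ hc), fun h => ?_⟩
  obtain ⟨z, hz, hqz⟩ := exists_norm_perp_family C ![v] (by simp)
    (fun i => by fin_cases i; simpa [hv] using hc) (fun i j hij => absurd (Subsingleton.elim i j) hij) hc
  have h1 := rGL_fix C (hv ▸ hc : Q v ≠ 0) (show B v z = 0 by simpa using hz 0)
  rw [h, Units.val_neg, Units.val_one, Matrix.neg_mulVec, Matrix.one_mulVec] at h1
  have key : ∀ t : ZMod 3, -t = t → t = 0 := by decide
  exact (hqz ▸ hc) (by rw [show z = 0 from funext fun i => key _ (congrFun h1 i), C.zero])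

include C in
/-- Each non-trivial member of a class with short products is the image of a reflection. -/
theorem exists_reflection (hc : c ≠ 0) (hf : ∀ i, Q (f i) = c) (horth : ∀ i j, i ≠ j → B (f i) (f j) = 0)
    (hπ : Function.Surjective π) (hker : π.ker = Subgroup.center ↥RS) {S : Set X}
    (hinv : ∀ x, ∀ s ∈ S, x * s * x⁻¹ ∈ S) (hsq : ∀ s ∈ S, s * s = 1)
    (hord : ∀ s ∈ S, ∀ t ∈ S, (s * t) ^ 2 = 1 ∨ (s * t) ^ 3 = 1) {x : X} (hx : x ∈ S) (hx1 : x ≠ 1) :
    ∃ g, π g = x ∧ ∃ v, Q v = c ∧ toGL7 g = rGL Q v := by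
  obtain ⟨g, rfl⟩ := hπ x
  have hpm : ∀ {u : ↥RS}, π u = 1 ↔ toGL7 u = 1 ∨ toGL7 u = -1 := fun {u} => by
    have := proj_eq_iff C π hc hf horth hker (g := u) (h := 1)
    rwa [map_one, map_one] at this
  have hg2 : toGL7 g * toGL7 g = 1 := by
    have h := hsq _ hx
    rw [← map_mul, hpm, map_mul] at h
    refine h.resolve_right fun h => ?_
    have e := congrArg (fun t : GL (Fin 7) (ZMod 3) => t.val.det) h
    simp only [Units.val_mul, Units.val_neg, Units.val_one, Matrix.det_mul, Matrix.det_neg, Matrix.det_one,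
      Fintype.card_fin] at e
    generalize (toGL7 g).val.det = d at e
    revert d; decide
  obtain ⟨z, hz⟩ := neg_one_mem_range C hc hf horth
  have key : ∀ g : ↥RS, π g ∈ S → π g ≠ 1 → toGL7 g * toGL7 g = 1 →
      ∀ (k : ℕ) (e : Fin k → V7), k ≤ 3 → (∀ i, Q (e i) ≠ 0) → (∀ i j, i ≠ j → B (e i) (e j) = 0) →
      (∀ i, (toGL7 g).val *ᵥ e i = -e i) → (∀ z, (∀ i, B (e i) z = 0) → (toGL7 g).val *ᵥ z = z) →
      ∃ v, Q v = c ∧ toGL7 g = rGL Q v := by
    intro g hgS hg1 hg2 k e hk3 he ho hneg hfix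
    by_cases hk2 : 2 ≤ k
    · obtain ⟨_, ⟨u, rfl⟩, hlong⟩ := long_product C hc (toGL7_iso g) hg2 hk2 hk3 he ho hneg hfix
      refine absurd ?_ hlong
      rcases hord _ hgS _ (hinv (π u) _ hgS) with h | h <;>
        rw [← map_inv, ← map_mul, ← map_mul, ← map_mul, ← map_pow, hpm] at h <;>
        simp only [map_mul, map_inv, map_pow] at h
      exacts [Or.inl h, Or.inr h]
    rcases Nat.eq_zero_or_pos k with rfl | hk0
    · refine absurd (hpm.2 (Or.inl (gl_ext fun y => ?_))) hg1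
      rw [hfix y (fun i => i.elim0), Units.val_one, Matrix.one_mulVec]
    obtain rfl : k = 1 := by omega
    have hgr : toGL7 g = rGL Q (e 0) := by
      refine gl_ext fun y => ?_
      have hBee : B (e 0) (e 0) ≠ 0 := by rw [C.self]; exact two_mul_ne (he 0)
      obtain ⟨t, ht⟩ : ∃ t, t = B (e 0) y / B (e 0) (e 0) := ⟨_, rfl⟩
      have hperp : B (e 0) (y - t • e 0) = 0 := by
        rw [map_sub, map_smul, smul_eq_mul, ht, div_mul_cancel₀ _ hBee, sub_self]
      have hy : y = (y - t • e 0) + t • e 0 := by rw [sub_add_cancel]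
      rw [hy, Matrix.mulVec_add, Matrix.mulVec_add, Matrix.mulVec_smul, Matrix.mulVec_smul, hneg 0,
        rGL_self C (he 0), rGL_fix C (he 0) hperp,
        hfix (y - t • e 0) (fun i => by rw [Subsingleton.elim i 0]; exact hperp)]
    rcases zmod3_eq_or_neg (he 0) hc with h | h
    · exact ⟨e 0, h, hgr⟩
    · exact absurd ⟨g, hgr⟩ (rGL_not_mem_range C hc h)
  obtain ⟨k, e, he, ho, hneg, hfix⟩ := exists_family C (toGL7_iso g) hg2
  by_cases hk : k ≤ 3
  · exact ⟨g, rfl, key g hx hx1 hg2 k e hk he ho hneg hfix⟩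
  have hzg : toGL7 (z * g) = -toGL7 g := by rw [map_mul, hz, neg_one_mul]
  have hπz : π (z * g) = π g := (proj_eq_iff C π hc hf horth hker).2 (Or.inr hzg)
  have hzg2 : toGL7 (z * g) * toGL7 (z * g) = 1 := by rw [hzg, neg_mul_neg, hg2]
  obtain ⟨k', e', he', ho', hneg', hfix'⟩ := exists_family C (toGL7_iso (z * g)) hzg2
  refine ⟨z * g, hπz, key (z * g) (hπz.symm ▸ hx) (hπz.symm ▸ hx1) hzg2 k' e' ?_ he' ho' hneg' hfix'⟩
  have hcross : ∀ i j, B (e i) (e' j) = 0 := fun i j => by
    have h1 : (toGL7 g).val *ᵥ e' j = e' j := by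
      have := hneg' j
      rw [hzg, Units.val_neg, Matrix.neg_mulVec, neg_inj] at this
      exact this
    have h2 := C.B_act (toGL7_iso g) (e i) (e' j)
    rw [hneg i, h1, map_neg, LinearMap.neg_apply] at h2
    have key : ∀ t : ZMod 3, -t = t → t = 0 := by decide
    exact key _ h2
  have := orth_card_le C (Sum.elim e e') (fun i => by cases i <;> simp [he, he']) (fun i j hij => by
    cases i <;> cases j <;> simp only [Sum.elim_inl, Sum.elim_inr]
    · exact ho _ _ fun h => hij (by rw [h])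
    · exact hcross _ _
    · rw [C.symm]; exact hcross _ _
    · exact ho' _ _ fun h => hij (by rw [h]))
  simp only [Fintype.card_sum, Fintype.card_fin] at this
  omega

/-- Eight vectors with the pattern of the diagram Y322 in the coordinates of an orthonormal basis. -/
def vec8 : ℕ → Fin 7 → ZMod 3
  | 0 => ![0, 0, 0, 0, 0, 0, 1]
  | 1 => ![0, 0, 0, 1, 1, 1, 1]
  | 2 => ![0, 0, 0, 0, 0, 1, 0]
  | 3 => ![0, 0, 1, 1, 1, 1, 0]
  | 4 => ![0, 1, 1, 1, 2, 0, 0]
  | 5 => ![0, 1, 0, 0, 0, 0, 0]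
  | 7 => ![1, 0, 1, 1, 2, 0, 0]
  | 8 => ![1, 0, 0, 0, 0, 0, 0]
  | _ => 0

theorem vec8_ok : ∀ r ∈ [0, 1, 2, 3, 4, 5, 7, 8], (∑ i, vec8 r i * vec8 r i = 1) ∧ ∀ s ∈ [0, 1, 2, 3, 4, 5, 7, 8],
    ((∑ i, vec8 r i * vec8 s i = 0) ↔ (r ≠ s ∧ adjB r s = false)) ∧
      (r ≠ s → vec8 r ≠ vec8 s ∧ vec8 r ≠ -vec8 s) := by
  decide +kernel

include C in
/-- A generating class with short products has eight members with the pattern of Y322. -/
theorem exists_pattern (hc : c ≠ 0) (hdisc : Cfsg.polarGramDet Q = -c) (hπ : Function.Surjective π)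
    (hker : π.ker = Subgroup.center ↥RS) {S : Set X} (hinv : ∀ x, ∀ s ∈ S, x * s * x⁻¹ ∈ S)
    (hsq : ∀ s ∈ S, s * s = 1) (hord : ∀ s ∈ S, ∀ t ∈ S, (s * t) ^ 2 = 1 ∨ (s * t) ^ 3 = 1)
    (hgen : Subgroup.closure S = ⊤) :
    ∃ s : ℕ → X, ∀ r ∈ [0, 1, 2, 3, 4, 5, 7, 8], s r ∈ S ∧ ∀ t ∈ [0, 1, 2, 3, 4, 5, 7, 8],
      (Commute (s r) (s t) ↔ adjB r t = false) ∧ (r ≠ t → s r ≠ s t) := by
  classical
  obtain ⟨f, hf, horth⟩ := exists_basis_norm C hc hdisc
  have h4 : 4 ≤ Fintype.card (Fin 7) := by simp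
  -- all reflections of norm `c` map into the class
  have hall : ∀ v, Q v = c → ∀ g : ↥RS, toGL7 g = rGL Q v → π g ∈ S := by
    intro v hv g hg
    by_contra hnot
    obtain ⟨x, hx, hx1⟩ : ∃ x ∈ S, x ≠ 1 := by
      by_contra hno
      push Not at hno
      have htop : (⊤ : Subgroup X) = ⊥ := by
        rw [← hgen, Subgroup.closure_eq_bot_iff]
        exact fun y hy => hno y hy
      have h1 : π g = π 1 := by
        rw [map_one]
        exact Subgroup.mem_bot.1 (htop ▸ Subgroup.mem_top _)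
      rw [proj_eq_iff C π hc hf horth hker, hg, map_one] at h1
      exact h1.elim (rGL_ne_pm C hc hv).1 (rGL_ne_pm C hc hv).2
    obtain ⟨g0, rfl, v0, hv0, hg0⟩ := exists_reflection C π hc hf horth hπ hker hinv hsq hord hx hx1
    obtain ⟨_, ⟨u, rfl⟩, hu⟩ := exists_conj_rGL C h4 hc (toGL7 (Q := Q) (c := c)).range
      (fun y hy => rGL_mem_range C hc hy) hv0 hv
    refine hnot ?_
    have e : g = u * g0 * u⁻¹ := toGL7_inj (by rw [hg, map_mul, map_mul, map_inv, hg0, hu])
    rw [e, map_mul, map_mul, map_inv]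
    exact hinv _ _ hx
  let vv : ℕ → V7 := fun r => ∑ i, vec8 r i • f i
  have hB : ∀ r t, B (vv r) (vv t) = 2 * c * ∑ i, vec8 r i * vec8 t i := by
    intro r t
    simp only [vv, map_sum, LinearMap.sum_apply, map_smul, LinearMap.smul_apply, smul_eq_mul]
    rw [Finset.mul_sum]
    refine Finset.sum_congr rfl fun i _ => ?_
    rw [Finset.sum_eq_single i (fun j _ hj => by rw [horth j i hj, mul_zero])
      (fun h => absurd (Finset.mem_univ i) h), C.self, hf]
    ring
  have hq : ∀ r ∈ [0, 1, 2, 3, 4, 5, 7, 8], Q (vv r) = c := by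
    intro r hr
    have h := hB r r
    rw [C.self, (vec8_ok r hr).1, mul_one] at h
    exact mul_left_cancel₀ zmod3_two_ne_zero h
  have hcoord : ∀ {a b : Fin 7 → ZMod 3}, ∑ i, a i • f i = ∑ i, b i • f i → a = b := fun {a b} h => by
    funext i
    refine sub_eq_zero.1 (Fintype.linearIndependent_iff.1 (orth_indep C f (fun i => (hf i) ▸ hc) horth)
      (fun i => a i - b i) ?_ i)
    simp only [sub_smul, Finset.sum_sub_distrib, h, sub_self]
  choose! gg hgg using fun r (hr : r ∈ [0, 1, 2, 3, 4, 5, 7, 8]) => rGL_mem_range C hc (hq r hr)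
  refine ⟨fun r => π (gg r), fun r hr => ⟨hall _ (hq r hr) _ (hgg r hr), fun t ht => ?_⟩⟩
  obtain ⟨h1, h2⟩ := (vec8_ok r hr).2 t ht
  have hvr : Q (vv r) ≠ 0 := (hq r hr) ▸ hc
  have hvt : Q (vv t) ≠ 0 := (hq t ht) ▸ hc
  have hdist : r ≠ t → rGL Q (vv r) ≠ rGL Q (vv t) := by
    intro hne e
    have e1 := rGL_self C hvr
    rw [e, rGL_act C hvt] at e1
    generalize (Q (vv t))⁻¹ * B (vv t) (vv r) = k at e1
    have e2 : (2 : ZMod 3) • vv r = k • vv t := by linear_combination (norm := module) e1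
    have e3 : vv r = (-k) • vv t := by
      have : (2 : ZMod 3) • (2 : ZMod 3) • vv r = vv r := by
        rw [smul_smul, show (2 : ZMod 3) * 2 = 1 by decide, one_smul]
      rw [← this, e2, smul_smul, (by decide : ∀ t : ZMod 3, 2 * t = -t) k]
    have e4 : vec8 r = (-k) • vec8 t := hcoord (by
      rw [show ∑ i, vec8 r i • f i = vv r from rfl, e3, Finset.smul_sum]
      simp only [Pi.smul_apply, smul_assoc])
    have hk : -k ≠ 0 := fun h0 => hvr (by rw [e3, h0, zero_smul, C.zero])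
    rcases zmod3_eq_or_neg hk (one_ne_zero (α := ZMod 3)) with h0 | h0
    · exact (h2 hne).1 (by rw [e4, h0, one_smul])
    · exact (h2 hne).2 (by rw [e4, h0, neg_one_smul])
  have hneg : ∀ {v w : V7}, Q v = c → Q w = c → rGL Q v ≠ -rGL Q w := fun {v w} hv hw e => by
    have e' := congrArg (fun x : GL (Fin 7) (ZMod 3) => x.val.det) e
    simp only [Units.val_neg, Matrix.det_neg, rGL_det_neg C (hv ▸ hc : Q v ≠ 0),
      rGL_det_neg C (hw ▸ hc : Q w ≠ 0), Fintype.card_fin] at e'
    revert e'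
    decide
  refine ⟨?_, fun hne e => ?_⟩
  · have hcm : Commute (π (gg r)) (π (gg t)) ↔ Commute (rGL Q (vv r)) (rGL Q (vv t)) := by
      rw [commute_iff_eq, ← map_mul, ← map_mul, proj_eq_iff C π hc hf horth hker, map_mul, map_mul, hgg r hr,
        hgg t ht]
      exact ⟨fun h => h.resolve_right (rGL_ne_neg_rGL C hvr hvt hvt), Or.inl⟩
    rw [hcm, (rGL3_commute_iff C hvr ((hq r hr).trans (hq t ht).symm)).1]
    have hB0 : B (vv r) (vv t) = 0 ↔ r ≠ t ∧ adjB r t = false := by
      rw [hB, mul_eq_zero, or_iff_right (two_mul_ne hc), h1]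
    rw [hB0]
    by_cases hne : r = t
    · subst hne
      have hself : ∀ r ∈ [0, 1, 2, 3, 4, 5, 7, 8], adjB r r = false := by decide
      simp [hself r hr]
    · simp [hne, hdist hne]
  · rw [proj_eq_iff C π hc hf horth hker, hgg r hr, hgg t ht] at e
    exact e.elim (hdist hne) (hneg (hq r hr) (hq t ht))

end Classify

end Cfsg.Lib.Fischer.M23
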