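import Cfsg.Agent.Lib.Fischer.TypeM23.Config
import Cfsg.Agent.Lib.Fischer.TypeM23.Reflections
import Cfsg.Agent.Lib.Fischer.Relations.M23
import Cfsg.Agent.Lib.CosetEnum.Fi22Table
import Cfsg.Agent.Lib.CosetEnum.Groups.Fi23
import Cfsg.Agent.Lib.CosetEnum.WordPres

/-!
# Ten members of a class of type M(23) with the relations of the presentation of Fi23
-/

set_option autoImplicit false
set_option maxRecDepth 100000

namespace Cfsg.Lib.Fischer.M23

open Cfsg Cfsg.Lib.Fischer Cfsg.Lib.Fischer.Relations Cfsg.Lib.CosetEnum Cfsg.Lib.CosetEnum.Fi22Out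
open Cfsg.Spor

attribute [local instance] finite_fi22

/-- The number in Fi23 of a generator of Fi22. -/
def up (g : ℕ) : ℕ := if g < 7 then g else g + 1

/-- The number in Fi22 of a generator of Fi23 other than the seventh. -/
def down (g : ℕ) : ℕ := if g < 7 then g else g - 1

/-- The diagram Y342 on numbers. -/
def edgeB (r s : ℕ) : Bool :=
  [(0, 1), (1, 2), (2, 3), (3, 4), (3, 8), (4, 5), (5, 6), (6, 7), (8, 9)].any fun e =>
    (Nat.beq e.1 r && Nat.beq e.2 s) || (Nat.beq e.1 s && Nat.beq e.2 r)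

theorem edgeB_down : ∀ r < 10, ∀ s < 10, r ≠ 7 → s ≠ 7 → edgeB r s = adjB (down r) (down s) := by decide

theorem edgeB_seven : ∀ r < 10, r ≠ 7 → (edgeB r 7 = decide (r = 6) ∧ edgeB 7 r = decide (r = 6)) := by decide

/-- The first generator of Fi22. -/
noncomputable def gen22 : Cfsg.Spor.Fi22 := Fi22Pres.numbering.gens Fi22.extra 0

variable {G : Type*} [Group G] [Finite G] {D : Set G}

/-- The projection of a neighbourhood group onto Fi22. -/
noncomputable def proj22 {d : G}
    (φ : (↥(Subgroup.closure (perp D d)) ⧸ Subgroup.center ↥(Subgroup.closure (perp D d))) ≃* Cfsg.Spor.Fi22) :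
    ↥(Subgroup.closure (perp D d)) →* Cfsg.Spor.Fi22 :=
  φ.toMonoidHom.comp (QuotientGroup.mk' _)

/-- Eight commuting-with-`c` members with the pattern of Y322. -/
theorem exists_eight (hD : Trans D) {d c : G} (hd : d ∈ D) (hc : c ∈ D) {c₃ : ZMod 3} (hc₃ : c₃ ≠ 0)
    (hL : Cfsg.IsProjReflectionGroupModThree
      (↥(Subgroup.closure (perp D d ∩ perp D c)) ⧸ Subgroup.center ↥(Subgroup.closure (perp D d ∩ perp D c)))
      7 (-c₃) c₃) :
    ∃ τ : ℕ → G, ∀ r ∈ eight, τ r ∈ perp D d ∩ perp D c ∧ ∀ t ∈ eight,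
      (Commute (τ r) (τ t) ↔ adjB r t = false) ∧ (r ≠ t → τ r ≠ τ t) := by
  obtain ⟨Q, hnd, hdisc, ⟨e⟩⟩ := hL
  obtain ⟨B, C⟩ : ∃ B : LinearMap.BilinForm (ZMod 3) (Fin 7 → ZMod 3), Cfsg.Lib.Linear.Orth.Space (⇑Q) B :=
    ⟨QuadraticMap.polarBilin Q, fun a v => by rw [QuadraticMap.map_smul, smul_eq_mul, pow_two],
      fun u v => (QuadraticMap.polarBilin_apply_apply Q u v).symm, fun v hv => hnd.2 v hv⟩
  set S := perp D d ∩ perp D c with hS
  have hSD : S ⊆ D := fun _ h => h.1.1
  have hconj : ∀ x ∈ Subgroup.closure S, ∀ s ∈ S, x * s * x⁻¹ ∈ S := fun x hx s hs =>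
    ⟨((conj_mem_perp hD hd (Subgroup.closure_mono (fun y hy => Set.mem_insert_of_mem _ hy.1) hx)).2 s hs.1).1,
      ((conj_mem_perp hD hc (Subgroup.closure_mono (fun y hy => Set.mem_insert_of_mem _ hy.2) hx)).2 s hs.2).1⟩
  let π := QuotientGroup.mk' (Subgroup.center ↥(Cfsg.reflectionSubgroup (⇑Q) c₃))
  obtain ⟨s, hs⟩ := exists_pattern C π hc₃ hdisc (QuotientGroup.mk'_surjective _) (QuotientGroup.ker_mk' _)
    (S := e '' image S) (fun x y hy => by
      obtain ⟨u, rfl⟩ := e.surjective x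
      obtain ⟨w, hw, rfl⟩ := hy
      obtain ⟨a, ha, rfl⟩ := exists_bar hw
      obtain ⟨g, rfl⟩ := QuotientGroup.mk_surjective u
      refine ⟨bar (hconj g g.2 a ha), bar_mem _, ?_⟩
      rw [← map_inv, ← map_mul, ← map_mul]
      rfl)
    (fun y hy => by
      obtain ⟨w, hw, rfl⟩ := hy
      obtain ⟨a, ha, rfl⟩ := exists_bar hw
      rw [← map_mul, bar_sq hD hSD ha, map_one])
    (fun y hy z hz => by
      obtain ⟨w, hw, rfl⟩ := hy
      obtain ⟨a, ha, rfl⟩ := exists_bar hw
      obtain ⟨w, hw, rfl⟩ := hz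
      obtain ⟨b, hb, rfl⟩ := exists_bar hw
      have h : ∀ n : ℕ, (a * b) ^ n = 1 → (e (bar ha) * e (bar hb)) ^ n = 1 := fun n h => by
        rw [← map_mul, ← map_pow, bar, bar, ← QuotientGroup.mk_mul, ← QuotientGroup.mk_pow,
          show ((⟨a, Subgroup.subset_closure ha⟩ : Subgroup.closure S) * ⟨b, Subgroup.subset_closure hb⟩) ^ n = 1 from
            Subtype.ext (by simpa using h), QuotientGroup.mk_one, map_one]
      exact (hD.set.2 a (hSD ha) b (hSD hb)).imp (h 2) (h 3))
    (by rw [show (⇑e : _ → _) = ⇑e.toMonoidHom from rfl, ← MonoidHom.map_closure, image_closure,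
      Subgroup.map_top_of_surjective _ e.surjective])
  have hpre : ∀ r ∈ eight, ∃ a, ∃ ha : a ∈ S, e (bar ha) = s r := fun r hr => by
    obtain ⟨w, hw, hw'⟩ := (hs r hr).1
    obtain ⟨a, ha, rfl⟩ := exists_bar hw
    exact ⟨a, ha, hw'⟩
  choose! τ hτ hτe using hpre
  refine ⟨τ, fun r hr => ⟨hτ r hr, fun t ht => ?_⟩⟩
  obtain ⟨h1, h2⟩ := (hs r hr).2 t ht
  refine ⟨?_, fun hne he => h2 hne ?_⟩
  · rw [← h1, ← hτe r hr, ← hτe t ht, ← bar_commute hD hSD (hτ r hr) (hτ t ht)]
    exact ⟨fun h => h.map e.toMonoidHom, fun h => e.injective (by rw [map_mul, map_mul]; exact h)⟩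
  · rw [← hτe r hr, ← hτe t ht]
    simp only [he]

variable (hD : Trans D) (hprim : Cfsg.IsPrimitiveUnderConj D) {d c : G}

include hD hprim in
/-- A neighbourhood is not contained in another. -/
theorem exists_perp_not_commute (hd : d ∈ D) (hc : c ∈ D) (hdc : ¬ Commute d c) (hne : (perp D d).Nonempty) :
    ∃ a ∈ perp D d, ¬ Commute a c := by
  by_contra hno
  push Not at hno
  have hsub : perp D d ⊆ perp D c := fun a ha =>
    ⟨ha.1, fun e => hdc (e ▸ ha.2.2), (hno a ha).symm⟩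
  have hconj : ∀ g x : G, perp D (g * x * g⁻¹) = (fun z => g * z * g⁻¹) '' perp D x := fun g x => by
    ext z
    rw [mem_perp_conj hD]
    exact ⟨fun h => ⟨_, h, by group⟩, fun ⟨w, hw, e⟩ => by rw [← e]; simpa [mul_assoc] using hw⟩
  have hcd : perp D c = perp D d := by
    obtain ⟨g, rfl⟩ := hD.trans d hd c hc
    refine (Set.eq_of_subset_of_ncard_le hsub ?_ (Set.toFinite _)).symm
    rw [hconj, Set.ncard_image_of_injective _ fun u v h => by simpa using h]
  let Bk : Set G := {e | e ∈ D ∧ perp D e = perp D d}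
  have hblock : ∀ g : G, (fun x => g * x * g⁻¹) '' Bk = Bk ∨ Disjoint ((fun x => g * x * g⁻¹) '' Bk) Bk := by
    intro g
    by_cases hg : perp D (g * d * g⁻¹) = perp D d
    · left
      ext e
      constructor
      · rintro ⟨x, hx, rfl⟩
        exact ⟨hD.conj g x hx.1, by rw [hconj, hx.2, ← hconj, hg]⟩
      · intro he
        refine ⟨g⁻¹ * e * g, ⟨by simpa using hD.conj g⁻¹ e he.1, ?_⟩, by group⟩
        have h1 : perp D (g⁻¹ * e * g⁻¹⁻¹) = perp D (g⁻¹ * (g * d * g⁻¹) * g⁻¹⁻¹) := by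
          rw [hconj, hconj g⁻¹, he.2, hg]
        simpa [mul_assoc] using h1
    · right
      refine Set.disjoint_left.2 ?_
      rintro e ⟨x, hx, rfl⟩ he
      exact hg ((hconj g d).trans ((congrArg (fun T => (fun z => g * z * g⁻¹) '' T) hx.2.symm).trans
        ((hconj g x).symm.trans he.2)))
  rcases hprim.2.2 Bk (fun e he => he.1) hblock with h | h
  · exact hdc (h (⟨hd, rfl⟩ : d ∈ Bk) (⟨hc, hcd⟩ : c ∈ Bk) ▸ Commute.refl d)
  · obtain ⟨b, hb⟩ := hne
    have hbd : d ∈ perp D b := ⟨hd, Ne.symm hb.2.1, hb.2.2.symm⟩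
    rw [((h ▸ hb.1 : b ∈ Bk)).2] at hbd
    exact absurd rfl hbd.2.1

include hD hprim in
/-- What centralises a member, its neighbourhood and one more member is central. -/
theorem mem_center_of_commute (hd : d ∈ D) (hc : c ∈ D) (hdc : ¬ Commute d c) (hne : (perp D d).Nonempty) {v : G}
    (hvd : Commute v d) (hvc : Commute v c) (hv : ∀ a ∈ perp D d, Commute v a) : v ∈ Subgroup.center G := by
  obtain ⟨a, ha⟩ := hne
  obtain ⟨K, hK⟩ : ∃ K, K = Subgroup.closure {x | x ∈ D ∧ Commute v x} := ⟨_, rfl⟩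
  have hKD : Cfsg.IsDSubgroup D K := hK ▸
    le_antisymm ((Subgroup.closure_le _).2 fun x hx => hx.2)
      (Subgroup.closure_mono fun x hx => ⟨hx.1, Subgroup.subset_closure hx⟩)
  have hle : Subgroup.closure {y : G | y ∈ D ∧ Commute d y} ≤ K := hK ▸ Subgroup.closure_mono fun x hx =>
    ⟨hx.1, (eq_or_ne x d).elim (fun h => h ▸ hvd) fun h => hv x ⟨hx.1, h, hx.2⟩⟩
  rcases closure_maximal hD hprim ⟨d, hd, a, ha.1, Ne.symm ha.2.1, ha.2.2⟩ hd K hKD hle with h | h
  · exfalso
    have hcK : c ∈ K := hK ▸ Subgroup.subset_closure ⟨hc, hvc⟩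
    have hC : Subgroup.closure {y : G | y ∈ D ∧ Commute d y} ≤ Subgroup.centralizer ({d} : Set G) :=
      (Subgroup.closure_le _).2 fun x hx => Subgroup.mem_centralizer_singleton_iff.2 hx.2.eq.symm
    exact hdc (Subgroup.mem_centralizer_singleton_iff.1 (hC (h ▸ hcK))).symm
  · refine Subgroup.mem_center_iff.2 fun x => ?_
    have hC : K ≤ Subgroup.centralizer ({v} : Set G) := hK ▸
      (Subgroup.closure_le _).2 fun y hy => Subgroup.mem_centralizer_singleton_iff.2 hy.2.eq.symm
    exact Subgroup.mem_centralizer_singleton_iff.1 (hC (h ▸ Subgroup.mem_top x))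

theorem extra_up : ∀ i < 2, (Fi22Pres.extra.getD i []).map up = Fi23Pres.extra.getD i [] ∧
    ∀ g ∈ Fi22Pres.extra.getD i [], g < 9 := by decide +kernel

theorem wordVal_congr_lt {M N : Type*} [Group M] [Group N] (f : M →* N) (x : ℕ → M) (x' : ℕ → N) (w : List ℕ)
    (h : ∀ g ∈ w, f (x g) = x' g) : f (wordVal x w) = wordVal x' w := by
  induction w with
  | nil => exact map_one f
  | cons g w ih =>
    rw [wordVal, wordVal, map_mul, ih fun a ha => h a (List.mem_cons_of_mem _ ha)]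
    congr 1
    unfold gen
    split_ifs
    · exact map_one f
    · exact h g List.mem_cons_self

theorem wordVal_commute {H : Subgroup G} (x : ℕ → ↥H) (w : List ℕ) {e : G}
    (h : ∀ g ∈ w, Commute (x g : G) e) : Commute ((wordVal x w : ↥H) : G) e := by
  induction w with
  | nil => exact Commute.one_left _
  | cons g w ih =>
    rw [wordVal, Subgroup.coe_mul]
    refine (ih fun a ha => h a (List.mem_cons_of_mem _ ha)).mul_left ?_
    unfold gen
    split_ifs
    · exact Commute.one_left _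
    · exact h g List.mem_cons_self

include hD hprim in
/-- Ten members with the relations of the presentation of Fi23. -/
theorem exists_gens (hZ : Subgroup.center G = ⊥)
    (hsep : ∀ a ∈ D, ∀ b ∈ D, (∀ e ∈ D, Commute a e ↔ Commute b e) → a = b)
    (hd : d ∈ D) (hc : c ∈ D) (hdc : ¬ Commute d c) {c₃ : ZMod 3} (hc₃ : c₃ ≠ 0)
    (hL : Cfsg.IsProjReflectionGroupModThree
      (↥(Subgroup.closure (perp D d ∩ perp D c)) ⧸ Subgroup.center ↥(Subgroup.closure (perp D d ∩ perp D c)))
      7 (-c₃) c₃)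
    (φ : (↥(Subgroup.closure (perp D d)) ⧸ Subgroup.center ↥(Subgroup.closure (perp D d))) ≃* Cfsg.Spor.Fi22)
    (hφ : φ '' image (perp D d) = conjugatesOf gen22) :
    ∃ y : ℕ → G, (∀ g, y g * y g = 1) ∧ (∀ g < 10, y g ∈ D) ∧ y 7 = c ∧
      (∀ g < 10, g ≠ 7 → y g ∈ perp D d) ∧
      (∀ a ∈ perp D d, ∃ k ∈ Subgroup.closure (y '' {g | g < 10}), k * y 0 * k⁻¹ = a) ∧
      (∀ r < 10, ∀ s < 10, (Commute (y r) (y s) ↔ edgeB r s = false)) ∧
      ∀ w ∈ Fi23Pres.extra, wordVal y w = 1 := by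
  classical
  obtain ⟨A, hAZ, hAk, hAp, hAx, hAd, hAp0, -, -, -⟩ := Fi22Out.exists_table
  have hg22 : gen22 = A.d := by rw [hAd, hAx]; rfl
  have hnc : ∀ a ∈ perp D d, ∃ e ∈ perp D d, ¬ Commute a e := fun a ha => exists_perp_noncommute hD hsep hd ha
  have hPD : perp D d ⊆ D := fun _ h => h.1
  set ψ := proj22 φ with hψ
  have hψbar : ∀ {a : G} (ha : a ∈ perp D d), ψ ⟨a, Subgroup.subset_closure ha⟩ = φ (bar ha) := fun _ => rfl
  have hpt : ∀ {a : G} (ha : a ∈ perp D d), ∃ p : Fin 3510, A.delta p = φ (bar ha) := fun {a} ha =>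
    (A.isConj_iff_exists _).1 (hg22 ▸ (hφ ▸ Set.mem_image_of_mem φ (bar_mem ha) : φ (bar ha) ∈ conjugatesOf gen22))
  have hpre : ∀ p : Fin 3510, ∃ (a : G) (ha : a ∈ perp D d), φ (bar ha) = A.delta p := fun p => by
    have h : A.delta p ∈ conjugatesOf gen22 := hg22 ▸ (A.isConj_iff_exists _).2 ⟨p, rfl⟩
    rw [← hφ] at h
    obtain ⟨w, hw, hw'⟩ := h
    obtain ⟨a, ha, rfl⟩ := exists_bar hw
    exact ⟨a, ha, hw'⟩
  have hcomm : ∀ {a b : G} (ha : a ∈ perp D d) (hb : b ∈ perp D d),
      Commute (φ (bar ha)) (φ (bar hb)) ↔ Commute a b := fun {a b} ha hb => by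
    rw [← bar_commute hD hPD ha hb]
    exact ⟨fun h => φ.injective (by rw [map_mul, map_mul]; exact h), fun h => h.map φ.toMonoidHom⟩
  have huniq : ∀ {a b : G} (ha : a ∈ perp D d) (hb : b ∈ perp D d), φ (bar ha) = φ (bar hb) → a = b :=
    fun ha hb h => bar_inj hD hPD hnc ha hb (φ.injective h)
  -- eight members, seen in Fi22
  obtain ⟨τ₀, hτ₀⟩ := exists_eight hD hd hc hc₃ hL
  choose! τ hτ using fun r (hr : r ∈ eight) => hpt (hτ₀ r hr).1.1
  have hshaped : Shaped A eight τ := fun r hr s hs => by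
    refine ⟨?_, fun hne e => ((hτ₀ r hr).2 s hs).2 hne (huniq (hτ₀ r hr).1.1 (hτ₀ s hs).1.1 ?_)⟩
    · rw [← ((hτ₀ r hr).2 s hs).1, ← hcomm (hτ₀ r hr).1.1 (hτ₀ s hs).1.1, hτ r hr, hτ s hs]
      exact Iff.rfl
    · rw [← hτ r hr, ← hτ s hs, e]
  obtain ⟨τ', hτ', q, α, hα, hα6⟩ := exists_ninth A hAZ hAk hAp hAd hAp0 hshaped
  have hS : ∀ r ∈ eight, ∃ (a : G) (ha : a ∈ perp D d), a ∈ perp D c ∧ φ (bar ha) = α (A.x r) := fun r hr => by
    rcases hτ' with rfl | rfl
    · exact ⟨τ₀ r, (hτ₀ r hr).1.1, (hτ₀ r hr).1.2, by rw [← hα r hr, hτ r hr]⟩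
    · have hr' := swapArm_eight r hr
      exact ⟨τ₀ (swapArm r), (hτ₀ _ hr').1.1, (hτ₀ _ hr').1.2, by rw [← hα r hr]; exact (hτ _ hr').symm⟩
  obtain ⟨a6, ha6, h6⟩ := hpre q
  rw [hα6] at h6
  have hnine : ∀ g < 9, ∃ (a : G) (ha : a ∈ perp D d), φ (bar ha) = α (A.x g) ∧ (g ≠ 6 → a ∈ perp D c) := by
    intro g hg
    by_cases h : g = 6
    · subst h; exact ⟨a6, ha6, h6, fun h => absurd rfl h⟩
    · obtain ⟨a, ha, hac, he⟩ := hS g ((show ∀ g < 9, g ≠ 6 → g ∈ eight by decide) g hg h)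
      exact ⟨a, ha, he, fun _ => hac⟩
  choose! z hz hzφ hzc using hnine
  -- the nine generate the neighbourhood group modulo its centre
  let z' : ℕ → ↥(Subgroup.closure (perp D d)) :=
    fun g => if h : g < 9 then ⟨z g, Subgroup.subset_closure (hz g h)⟩ else 1
  have hz' : ∀ g, ψ (z' g) = α (A.x g) := fun g => by
    simp only [z']
    split_ifs with h
    · exact hzφ g h
    · rw [map_one, hAx, Numbering.gens, if_neg (show ¬ g < Fi22Pres.numbering.k from h), map_one]
  have hsurj : (Subgroup.closure (z' '' {g | g < 9})).map ψ = ⊤ := by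
    rw [MonoidHom.map_closure, Set.image_image, show (fun g => ψ (z' g)) = fun g => α (A.x g) from funext hz',
      ← Set.image_image (fun x => α x) A.x, show (fun x => α x) = ⇑α.toMonoidHom from rfl, ← MonoidHom.map_closure,
      hAx, show {g | g < 9} = {g | g < Fi22Pres.numbering.k} from rfl, Numbering.closure_gens,
      Subgroup.map_top_of_surjective _ α.surjective]
  let y : ℕ → G := fun g => if g = 7 then c else if g < 10 then z (down g) else 1
  have hdown : ∀ g < 10, g ≠ 7 → down g < 9 := by decide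
  have hy : ∀ g < 10, g ≠ 7 → y g = z (down g) := fun g hg hne => by simp [y, hg, hne]
  have hy7 : y 7 = c := by simp [y]
  have hz'y : ∀ g < 9, (z' g : G) = y (up g) := fun g hg => by
    rw [hy _ ((show ∀ g < 9, up g < 10 by decide) g hg) ((show ∀ g < 9, up g ≠ 7 by decide) g hg),
      (show ∀ g < 9, down (up g) = g by decide) g hg]
    simp [z', hg]
  have hK : ∀ k ∈ Subgroup.closure (z' '' {g | g < 9}), (k : G) ∈ Subgroup.closure (y '' {g | g < 10}) := by
    intro k hk
    induction hk using Subgroup.closure_induction with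
    | mem x hx =>
      obtain ⟨g, hg, rfl⟩ := hx
      rw [hz'y g hg]
      exact Subgroup.subset_closure ⟨_, (show ∀ g < 9, up g < 10 by decide) g hg, rfl⟩
    | one => exact one_mem _
    | mul u v _ _ hu hv => exact mul_mem hu hv
    | inv u _ hu => exact inv_mem hu
  have hperp : ∀ a ∈ perp D d, ∃ k ∈ Subgroup.closure (z' '' {g | g < 9}), (k : G) * z 0 * (k : G)⁻¹ = a := by
    intro a ha
    have h1 : φ (bar ha) ∈ conjugatesOf gen22 := by rw [← hφ]; exact Set.mem_image_of_mem φ (bar_mem ha)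
    have h2 : φ (bar (hz 0 (by norm_num))) ∈ conjugatesOf gen22 := by rw [← hφ]; exact Set.mem_image_of_mem φ (bar_mem _)
    obtain ⟨u, hu⟩ := isConj_iff.1 ((show IsConj gen22 _ from h2).symm.trans (show IsConj gen22 _ from h1))
    obtain ⟨k, hk, rfl⟩ := (hsurj.symm ▸ Subgroup.mem_top u : u ∈ _)
    refine ⟨k, hk, ?_⟩
    have hmem : (k : G) * z 0 * (k : G)⁻¹ ∈ perp D d :=
      ((conj_mem_perp hD hd (Subgroup.closure_mono (Set.subset_insert _ _) k.2)).2 _ (hz 0 (by norm_num))).1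
    refine huniq hmem ha ?_
    rw [← hψbar, ← hu, show (⟨(k : G) * z 0 * (k : G)⁻¹, Subgroup.subset_closure hmem⟩ :
      ↥(Subgroup.closure (perp D d))) = k * ⟨z 0, Subgroup.subset_closure (hz 0 (by norm_num))⟩ * k⁻¹ from rfl,
      map_mul, map_mul, map_inv]
    rfl
  -- the ninth member does not commute with `c`
  have hz6 : ¬ Commute (z 6) c := by
    intro h
    obtain ⟨a, ha, hac⟩ := exists_perp_not_commute hD hprim hd hc hdc ⟨_, hz 0 (by norm_num)⟩
    obtain ⟨k, hk, rfl⟩ := hperp a ha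
    have hle : ∀ k ∈ Subgroup.closure (z' '' {g | g < 9}), Commute (k : G) c := by
      intro k hk
      induction hk using Subgroup.closure_induction with
      | mem x hx =>
        obtain ⟨g, hg, rfl⟩ := hx
        simp only [z', dif_pos (show g < 9 from hg)]
        by_cases h6 : g = 6
        · exact h6 ▸ h
        · exact (hzc g hg h6).2.2.symm
      | one => exact Commute.one_left _
      | mul u v _ _ hu hv => exact hu.mul_left hv
      | inv u _ hu => exact hu.inv_left
    exact hac (((hle k hk).mul_left (hzc 0 (by norm_num) (by norm_num)).2.2.symm).mul_left (hle k hk).inv_left)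
  have hyD : ∀ g < 10, y g ∈ D := fun g hg => by
    by_cases h : g = 7
    · rw [h, hy7]; exact hc
    · rw [hy g hg h]; exact (hz _ (hdown g hg h)).1
  refine ⟨y, fun g => ?_, hyD, hy7, fun g hg h => hy g hg h ▸ hz _ (hdown g hg h), fun a ha => ?_, ?_, ?_⟩
  · by_cases hg : g < 10
    · exact mul_self hD (hyD g hg)
    · simp [y, hg, show g ≠ 7 by omega]
  · obtain ⟨k, hk, e⟩ := hperp a ha
    refine ⟨k, hK k hk, ?_⟩
    rw [hy 0 (by norm_num) (by norm_num)]
    exact e
  · intro r hr s hs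
    have hcz : ∀ r < 10, r ≠ 7 → (Commute (y r) c ↔ r ≠ 6) := fun r hr h => by
      rw [hy r hr h]
      by_cases h6 : r = 6
      · subst h6; simpa [down] using hz6
      · simp only [ne_eq, h6, not_false_eq_true, iff_true]
        exact (hzc _ (hdown r hr h) ((show ∀ r < 10, r ≠ 7 → r ≠ 6 → down r ≠ 6 by decide) r hr h h6)).2.2.symm
    by_cases h7 : r = 7 <;> by_cases h7' : s = 7
    · subst h7 h7'; exact iff_of_true (Commute.refl _) (by decide)
    · subst h7
      rw [hy7, Commute.symm_iff, hcz s hs h7', (edgeB_seven s hs h7').2]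
      simp
    · subst h7'
      rw [hy7, hcz r hr h7, (edgeB_seven r hr h7).1]
      simp
    · rw [hy r hr h7, hy s hs h7', edgeB_down r hr s hs h7 h7',
        ← hcomm (hz _ (hdown r hr h7)) (hz _ (hdown s hs h7')), hzφ _ (hdown r hr h7), hzφ _ (hdown s hs h7'),
        ← (pts_adj A hAZ hAk hAp (hdown r hr h7) (hdown s hs h7')).1, commute_iff_eq, ← map_mul, ← map_mul]
      exact α.injective.eq_iff
  · intro w hw
    obtain ⟨i, hi, rfl⟩ : ∃ i < 2, Fi23Pres.extra.getD i [] = w := by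
      obtain ⟨i, hi, rfl⟩ := List.getElem_of_mem hw
      exact ⟨i, hi, List.getD_eq_getElem _ _ hi⟩
    obtain ⟨hmap, hlt⟩ := extra_up i hi
    set w22 := Fi22Pres.extra.getD i [] with hw22
    have h22 : wordVal (Fi22Pres.numbering.gens Fi22.extra) w22 = 1 :=
      Fi22Pres.numbering.wordVal_gens (by decide)
        (Fi22Pres.map_extra _ (Fi22Pres.numbering.gens_mul_self Fi22.extra)) _ (List.mem_append_right _ (by
          rw [hw22, List.getD_eq_getElem _ _ (show i < Fi22Pres.extra.length by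
            simp only [Fi22Pres.extra, List.length_cons, List.length_nil]; omega)]
          exact List.getElem_mem _))
    have hψv : ψ (wordVal z' w22) = 1 := by
      rw [map_wordVal, show (fun g => ψ (z' g)) = fun g => α.toMonoidHom (A.x g) from funext hz', ← map_wordVal,
        hAx, h22, map_one]
    have hcen : wordVal z' w22 ∈ Subgroup.center ↥(Subgroup.closure (perp D d)) := by
      rw [hψ, proj22, MonoidHom.comp_apply, MulEquiv.coe_toMonoidHom, MulEquiv.map_eq_one_iff] at hψv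
      exact (QuotientGroup.eq_one_iff _).1 hψv
    have hv : ((wordVal z' w22 : ↥(Subgroup.closure (perp D d))) : G) = wordVal y (Fi23Pres.extra.getD i []) := by
      rw [← hmap, ← WordPres.wordVal_map y (k := 9) (by decide) up (by decide) _ hlt]
      exact wordVal_congr_lt (Subgroup.subtype _) z' _ w22 (fun g hg => hz'y g (hlt g hg))
    rw [← hv]
    have hcv : Commute ((wordVal z' w22 : ↥(Subgroup.closure (perp D d))) : G) c := by
      refine wordVal_commute z' w22 fun g hg => ?_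
      have h9 := hlt g hg
      have h6 : g ≠ 6 := (show ∀ i < 2, ∀ g ∈ Fi22Pres.extra.getD i [], g ≠ 6 by decide +kernel) i hi g hg
      simp only [z', dif_pos h9]
      exact (hzc g h9 h6).2.2.symm
    have hin : Subgroup.closure (perp D d) ≤ Subgroup.centralizer ({d} : Set G) :=
      (Subgroup.closure_le _).2 fun a ha => Subgroup.mem_centralizer_singleton_iff.2 ha.2.2.eq.symm
    have := mem_center_of_commute hD hprim hd hc hdc ⟨_, hz 0 (by norm_num)⟩
      (v := ((wordVal z' w22 : ↥(Subgroup.closure (perp D d))) : G)) (Subgroup.mem_centralizer_singleton_iff.1 (hin (wordVal z' w22).2)) hcv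
      (fun a ha => (congrArg Subtype.val (Subgroup.mem_center_iff.1 hcen ⟨a, Subgroup.subset_closure ha⟩)).symm)
    rwa [hZ, Subgroup.mem_bot] at this

end Cfsg.Lib.Fischer.M23
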