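import Cfsg.Agent.Lib.CosetEnum.Fi22Aut

/-!
# Normalising an arbitrary configuration of transpositions with a given commutation pattern

The role machinery of the automorphism search, for a family of points that is not known to be the image of
the generators under an automorphism.
-/

set_option autoImplicit false

namespace Cfsg.Lib.CosetEnum.TransTable

variable {G : Type*} [Group G] [Finite G] {n : ℕ} (A : TransTable G n)

/-- A family of points has the commutation pattern of the generators on some roles. -/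
structure Patterned (roles : List ℕ) (τ : ℕ → Fin n) : Prop where
  commute : ∀ r ∈ roles, ∀ s ∈ roles,
    (A.delta (τ r) * A.delta (τ s) = A.delta (τ s) * A.delta (τ r) ↔ A.x r * A.x s = A.x s * A.x r)
  distinct : ∀ r ∈ roles, ∀ s ∈ roles, A.pts.getD r 0 ≠ A.pts.getD s 0 → τ r ≠ τ s

theorem conds_of_patterned {roles : List ℕ} {τ : ℕ → Fin n} (hP : A.Patterned roles τ)
    {prev : List (ℕ × ℕ)} {r : ℕ} (hr : r < A.k) (hrr : r ∈ roles)
    (hprev : ∀ hg ∈ prev, hg.1 ∈ roles ∧ hg.1 < A.k ∧ hg.2 < A.k) {a : G}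
    (ha : ∀ hg ∈ prev, (A.f a (τ hg.1)).1 = A.pts.getD hg.2 0) :
    condsB A.Z A.k (roleConds A.Z A.k A.pts prev r) (A.f a (τ r)).1 = true := by
  rw [condsB_iff]
  intro c hc
  simp only [roleConds, List.mem_map] at hc
  obtain ⟨hg, hmem, rfl⟩ := hc
  obtain ⟨h0, h1, h2⟩ := hprev hg hmem
  have hh : A.x hg.2 = MulAut.conj a (A.delta (τ hg.1)) := by
    rw [← A.delta_pts h2, show (⟨A.pts.getD hg.2 0, A.pts_lt h2⟩ : Fin n) = A.f a (τ hg.1) from
      Fin.ext (ha hg hmem).symm, A.delta_apply]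
    rfl
  have hq : A.delta (A.f a (τ r)) = MulAut.conj a (A.delta (τ r)) := by
    rw [A.delta_apply]; rfl
  rw [← A.commute_gen_iff h2 (A.f a (τ r)), hq, hh, ← map_mul, ← map_mul, (MulAut.conj a).injective.eq_iff,
    hP.commute hg.1 h0 r hrr, ← A.delta_pts hr, A.commute_gen_iff h1, twalk_cons, twalk_nil, Nat.beq_eq]

/-- A point in a listed orbit can be moved to its head, fixing the earlier images. -/
theorem state_of_member {τ : ℕ → Fin n} {prev : List (ℕ × ℕ)} {r s : ℕ} {R : Rep}
    {reps : List Rep} (hok : repsOK A.Z A.k A.pts prev r reps = true) (hR : R ∈ reps)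
    (horb : orbitOK A.Z R.O R.Pos A.k n R.c R.U R.c 0 = true) {a : G}
    (ha : ∀ hg ∈ prev, (A.f a (τ hg.1)).1 = A.pts.getD hg.2 0)
    (hmem : member R.O R.Pos R.c (A.f a (τ s)).1 = true) : A.State τ (prev ++ [(s, R.g)]) := by
  simp only [repsOK, Bool.and_eq_true, List.all_eq_true, Nat.blt_eq, Nat.beq_eq,
    Bool.not_eq_true', beq_eq_false_iff_ne, ne_eq, and_assoc] at hok
  obtain ⟨-, -, hreps⟩ := hok
  obtain ⟨hc, hO, hU⟩ := hreps R hR
  set q := A.f a (τ s) with hqdef
  simp only [member, Bool.and_eq_true, Nat.blt_eq, Nat.beq_eq] at hmem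
  obtain ⟨p, hp, hcard, -⟩ := orbit_eq A.x A.f A.perm A.k_le A.f_gen horb hc
  have hget := fun j (hj : j < R.c) => orbitOK_get horb j (Nat.zero_le _) (by omega)
  set S := (fun b : G => A.f b p) ''
    (Subgroup.closure ((wordVal A.x) '' {u | u ∈ R.U}) : Set G) with hS
  let T : Set (Fin n) := {z | ∃ j : Fin R.c, R.O.getP j.1 / B / B = z.1}
  have hTS : S = T := by
    have hle : ∀ z, z ∈ T → z ∈ S := by
      rintro z ⟨⟨j, hj⟩, hz⟩
      induction j using Nat.strong_induction_on generalizing z with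
      | _ j ih =>
        rcases (hget j hj).2.2.1 with rfl | ⟨h1, h2⟩
        · refine ⟨1, one_mem _, Fin.ext ?_⟩
          show (A.f 1 p).1 = z.1
          rw [map_one, Equiv.Perm.one_apply, hp]
          exact hz
        · obtain ⟨b, hb, hbp⟩ := ih _ h1 ⟨_, (hget _ (by omega)).1⟩ (by omega) rfl
          simp only at hbp hz
          by_cases hlt : R.O.getP j % B < R.U.length
          · rw [List.getD_eq_getElem _ _ hlt] at h2
            refine ⟨wordVal A.x R.U[R.O.getP j % B] * b,
              mul_mem (Subgroup.subset_closure ⟨_, List.getElem_mem hlt, rfl⟩) hb, Fin.ext ?_⟩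
            show (A.f (_ * b) p).1 = z.1
            rw [map_mul, Equiv.Perm.mul_apply, hbp,
              A.walk_apply ((hget j hj).2.2.2 _ (List.getElem_mem hlt)).1, ← hz]
            exact h2
          · rw [List.getD_eq_default _ _ (by omega), twalk_nil] at h2
            refine ⟨b, hb, ?_⟩
            show A.f b p = z
            rw [hbp]
            exact Fin.ext (by rw [← hz]; exact h2)
    refine (Set.eq_of_subset_of_ncard_le hle ?_ (Set.toFinite _)).symm
    rw [hS, hcard]
    let pt : Fin R.c → Fin n := fun j => ⟨R.O.getP j.1 / B / B, (hget j.1 j.2).1⟩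
    have hinj : Function.Injective pt := by
      intro i j hij
      have h1 := congrArg (fun z : Fin n => R.Pos.getP z.1) hij
      simp only [pt] at h1
      rw [(hget i.1 i.2).2.1, (hget j.1 j.2).2.1] at h1
      exact Fin.ext h1
    calc R.c = (Set.range pt).ncard := by
          rw [← Set.image_univ, Set.ncard_image_of_injective _ hinj, Set.ncard_univ, Nat.card_fin]
      _ ≤ T.ncard := by
          refine Set.ncard_le_ncard ?_ (Set.toFinite _)
          rintro _ ⟨j, rfl⟩
          exact ⟨j, rfl⟩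
  obtain ⟨b, hb, hbq⟩ : q ∈ S := hTS ▸ (⟨⟨_, hmem.1⟩, hmem.2⟩ : q ∈ T)
  have hfix : ∀ c ∈ Subgroup.closure ((wordVal A.x) '' {u | u ∈ R.U}), ∀ hg ∈ prev,
      ∀ i : Fin n, i.1 = A.pts.getD hg.2 0 → A.f c i = i := by
    intro c hc hg h i hi
    have hle : Subgroup.closure ((wordVal A.x) '' {u | u ∈ R.U}) ≤
        (MulAction.stabilizer (Equiv.Perm (Fin n)) i).comap A.f := by
      rw [Subgroup.closure_le]
      rintro _ ⟨u, hu, rfl⟩
      refine Fin.ext ?_
      show (A.f (wordVal A.x u) i).1 = i.1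
      rw [A.walk_apply ((hget 0 ‹0 < R.c›).2.2.2 u hu).1, hi]
      exact hU u hu hg h
    exact hle hc
  refine ⟨b⁻¹ * a, fun hg h => ?_⟩
  rw [List.mem_append, List.mem_singleton] at h
  rcases h with h | rfl
  · rw [map_mul, Equiv.Perm.mul_apply, hfix b⁻¹ (inv_mem hb) hg h _ (ha hg h), ha hg h]
  · rw [map_mul, Equiv.Perm.mul_apply, map_inv, Equiv.Perm.inv_def,
      show (A.f b).symm (A.f a (τ s)) = p from (Equiv.symm_apply_eq _).2 hbq.symm, hp, hO]

/-- The possible orbits of one more role. -/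
theorem member_of_patterned {roles : List ℕ} {τ : ℕ → Fin n} (hP : A.Patterned roles τ)
    {prev : List (ℕ × ℕ)} {r : ℕ} {reps : List Rep} (hr : r < A.k) (hrr : r ∈ roles)
    (hprev : ∀ hg ∈ prev, hg.1 ∈ roles ∧ hg.1 < A.k ∧ hg.2 < A.k ∧ A.pts.getD hg.1 0 ≠ A.pts.getD r 0)
    (hscan : scanOK A.Z A.k (roleConds A.Z A.k A.pts prev r) (roleMem A.pts prev reps) n 0 = true) {a : G}
    (ha : ∀ hg ∈ prev, (A.f a (τ hg.1)).1 = A.pts.getD hg.2 0) :
    ∃ R ∈ reps, member R.O R.Pos R.c (A.f a (τ r)).1 = true := by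
  have hmem := scanOK_get hscan (A.f a (τ r)).1 (Nat.zero_le _) (by omega)
    (A.conds_of_patterned hP hr hrr (fun hg h => ⟨(hprev hg h).1, (hprev hg h).2.1, (hprev hg h).2.2.1⟩) ha)
  rw [roleMem, Bool.or_eq_true, elemN_iff, memReps_iff] at hmem
  refine hmem.resolve_left fun hmem => ?_
  obtain ⟨hg, h, he⟩ := List.mem_map.1 hmem
  obtain ⟨h0, -, -, h3⟩ := hprev hg h
  exact hP.distinct _ h0 _ hrr h3 ((A.f a).injective (Fin.ext ((ha hg h).trans he)))

/-- Normalising the image of one more role. -/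
theorem state_step_patterned {roles : List ℕ} {τ : ℕ → Fin n} (hP : A.Patterned roles τ)
    {prev : List (ℕ × ℕ)} {r : ℕ} {reps : List Rep}
    (hok : repsOK A.Z A.k A.pts prev r reps = true) (hrr : r ∈ roles) (hroles : ∀ hg ∈ prev, hg.1 ∈ roles)
    (hscan : scanOK A.Z A.k (roleConds A.Z A.k A.pts prev r) (roleMem A.pts prev reps) n 0 = true)
    (horb : ∀ R ∈ reps, orbitOK A.Z R.O R.Pos A.k n R.c R.U R.c 0 = true)
    (hst : A.State τ prev) : ∃ R ∈ reps, A.State τ (prev ++ [(r, R.g)]) := by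
  obtain ⟨a, ha⟩ := hst
  have hok' := hok
  simp only [repsOK, Bool.and_eq_true, List.all_eq_true, Nat.blt_eq, Nat.beq_eq,
    Bool.not_eq_true', beq_eq_false_iff_ne, ne_eq, and_assoc] at hok'
  obtain ⟨hr, hprev, -⟩ := hok'
  obtain ⟨R, hR, hmem⟩ := A.member_of_patterned hP hr hrr (fun hg h => ⟨hroles hg h, (hprev hg h).1,
    (hprev hg h).2.1, fun e => by
      have := (hprev hg h).2.2
      rw [e, Nat.beq_refl] at this
      exact Bool.noConfusion this⟩) hscan ha
  exact ⟨R, hR, A.state_of_member hok hR (horb R hR) ha hmem⟩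

/-- An automorphism given on points carries patterned families to patterned families. -/
theorem patterned_twist {σ : MulAut G} {π : Equiv.Perm (Fin n)} (hπ : ∀ p, A.delta (π p) = σ (A.delta p))
    {roles : List ℕ} {τ : ℕ → Fin n} (hP : A.Patterned roles τ) : A.Patterned roles fun r => π.symm (τ r) := by
  have h1 : ∀ q, A.delta (π.symm q) = σ.symm (A.delta q) := fun q => by
    have := hπ (π.symm q)
    rw [Equiv.apply_symm_apply] at this
    rw [this, MulEquiv.symm_apply_apply]
  refine ⟨fun r hr s hs => ?_, fun r hr s hs hne e => hP.distinct r hr s hs hne (π.symm.injective e)⟩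
  rw [← hP.commute r hr s hs, h1, h1, ← map_mul, ← map_mul, σ.symm.injective.eq_iff]

end Cfsg.Lib.CosetEnum.TransTable
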